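import Cfsg.Agent.H419.VanOrd.NonSolv
import Cfsg.Agent.H419.Spor.Table
import Cfsg.Agent.H690.LieGood
import Cfsg.Agent.H690.Spor.Tits
import Cfsg.Agent.H714.PslMore
import Cfsg.Agent.H714.AltFull
import Cfsg.Agent.S1230
import Cfsg.Agent.S0204

/-!
# Rows of the simple groups of Lie type and alternating groups (helper419)
-/

set_option autoImplicit false

namespace Cfsg.Agent.H419.VanOrd.RowLie

open Cfsg Cfsg.Agent.H713 Cfsg.Agent.H690.LieGood Cfsg.Agent.FixBN Cfsg.Agent.H419.Spor.Table

universe u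

/-- A simple group in which all elements of even order are involutions. -/
theorem l2_of_inv {K : Type*} [Group K] [Finite K] [IsSimpleGroup K] (hna : ∃ a b : K, a * b ≠ b * a)
    (h : ∀ x : K, 2 ∣ orderOf x → orderOf x = 2) : L2 K := by
  have f2 : Fact (Nat.Prime 2) := ⟨Nat.prime_two⟩
  obtain ⟨E, hE⟩ := Cfsg.Agent.S0204.result (G := K) (by
    intro hc
    obtain ⟨a, b, hab⟩ := hna
    exact hab (IsCyclic.isMulCommutative.is_comm.comm a b))
  have hE4 : Nat.card E = 4 := hE.card_four
  have hEp : IsPGroup 2 E := IsPGroup.of_card (n := 2) (by rw [hE4]; norm_num)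
  obtain ⟨P, hEP⟩ := hEp.exists_le_sylow
  have h4P : 4 ∣ Nat.card P := by rw [← hE4]; exact Subgroup.card_dvd_of_le hEP
  have hnc : ¬ IsCyclic (P : Subgroup K) := by
    intro hc
    have h1 : IsCyclic (E.subgroupOf (P : Subgroup K)) := inferInstance
    have h2 : IsCyclic E :=
      isCyclic_of_surjective (Subgroup.subgroupOfEquivOfLe hEP).toMonoidHom (Subgroup.subgroupOfEquivOfLe hEP).surjective
    exact hE.not_isCyclic h2
  have hnn : ¬ (P : Subgroup K).Normal := by
    intro hn
    rcases hn.eq_bot_or_eq_top with h1 | h1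
    · have h2 : Nat.card P = 1 := by
        have : Nat.card (P : Subgroup K) = Nat.card (⊥ : Subgroup K) := by rw [h1]
        rw [Subgroup.card_bot] at this
        exact this
      rw [h2] at h4P
      norm_num at h4P
    · have h2 : IsPGroup 2 K := by
        have h3 := P.isPGroup'
        rw [h1] at h3
        exact h3.of_equiv Subgroup.topEquiv
      have h3 : Group.IsNilpotent K := h2.isNilpotent
      have h4 : Group.IsSolvable K := inferInstance
      obtain ⟨a, b, hab⟩ := hna
      exact hab (IsSimpleGroup.comm_iff_isSolvable.2 h4 a b)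
  have hsq : ∀ t : K, orderOf t = 2 → ∀ c ∈ Subgroup.centralizer ({t} : Set K), c ^ 2 = 1 := by
    intro t ht c hc
    by_cases hce : 2 ∣ orderOf c
    · rw [← h c hce]
      exact pow_orderOf_eq_one c
    · have hcm : Commute t c := (Subgroup.mem_centralizer_singleton_iff.1 hc).symm
      have hcop : (orderOf t).Coprime (orderOf c) := by
        rw [ht]
        exact (Nat.Prime.coprime_iff_not_dvd Nat.prime_two).2 hce
      have h1 := hcm.orderOf_mul_eq_mul_orderOf_of_coprime hcop
      have h2 := h (t * c) (by rw [h1, ht]; exact Dvd.intro _ rfl)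
      rw [h1, ht] at h2
      have h3 : orderOf c = 1 := by omega
      rw [orderOf_eq_one_iff.1 h3, one_pow]
  obtain ⟨F, i1, i2, hF, ⟨e⟩⟩ := Cfsg.Agent.S1230.result P hnc hnn (fun t ht => ⟨by
    refine ⟨⟨fun a b => ?_⟩⟩
    apply Subtype.ext
    have ha := hsq t ht a a.2
    have hb := hsq t ht b b.2
    have hab := hsq t ht (a * b) (mul_mem a.2 b.2)
    rw [pow_two] at ha hb hab
    have ha' : ((a : K))⁻¹ = a := inv_eq_of_mul_eq_one_left ha
    have hb' : ((b : K))⁻¹ = b := inv_eq_of_mul_eq_one_left hb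
    have hab' : ((a : K) * b)⁻¹ = (a : K) * b := inv_eq_of_mul_eq_one_left hab
    rw [mul_inv_rev, ha', hb'] at hab'
    exact hab'.symm, hsq t ht⟩)
  have hp2 : ∃ n : ℕ, Fintype.card F = 2 ^ n := by
    obtain ⟨n, hn⟩ := P.isPGroup'.exists_card_eq
    exact ⟨n, by rw [hF, hn]⟩
  obtain ⟨r, hr⟩ := CharP.exists F
  have hrp : r.Prime := CharP.char_is_prime F r
  have : Fact r.Prime := ⟨hrp⟩
  obtain ⟨n, hn⟩ := hp2
  obtain ⟨m, hm, hm2⟩ := FiniteField.card F r
  have hr2 : r = 2 := by
    have h1 : r ∣ 2 ^ n := by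
      rw [← hn, hm2]
      exact dvd_pow_self r m.2.ne'
    exact (Nat.prime_dvd_prime_iff_eq hrp Nat.prime_two).1 (hrp.dvd_of_dvd_pow h1)
  subst hr2
  refine ⟨F, i1, i2, hr, ?_, ⟨e⟩⟩
  rw [hF]
  exact Nat.le_of_dvd Nat.card_pos h4P

/-- Characteristic two. -/
theorem row_two {K : Type*} [Group K] [Finite K] [IsSimpleGroup K] (hna : ∃ a b : K, a * b ≠ b * a)
    (h : IsLieTypeChar 2 K) : EvRow K ∨ L2 K := by
  have h2 : Fact (Nat.Prime 2) := ⟨Nat.prime_two⟩
  have hs := Cfsg.Agent.H690.LieRow.hasSplit Nat.prime_two h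
  by_cases hx : ∃ x : K, 2 ∣ orderOf x ∧ orderOf x ≠ 2
  · obtain ⟨x, hx, hx2⟩ := hx
    exact Or.inl ⟨x, vz_of_hasSplit (p := 2) hs hx, hx, hx2⟩
  · push Not at hx
    exact Or.inr (l2_of_inv hna hx)

theorem l2_of_card {K : Type*} [Group K] [Finite K] [IsSimpleGroup K] (h60 : Nat.card K = 60) : L2 K := by
  obtain ⟨e1⟩ := Cfsg.Agent.S0494.result h60
  let E := GaloisField 2 2
  have : Fintype E := Fintype.ofFinite _
  have hE : Fintype.card E = 4 := by
    rw [← Nat.card_eq_fintype_card, GaloisField.card 2 2 (by norm_num)]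
    norm_num
  have hsE : IsSimpleGroup (Matrix.ProjectiveSpecialLinearGroup (Fin 2) E) :=
    Matrix.ProjectiveSpecialLinearGroup.rank_two_simple (by rw [Nat.card_eq_fintype_card, hE])
  have h60' : Nat.card (Matrix.ProjectiveSpecialLinearGroup (Fin 2) E) = 60 := by
    have := Cfsg.Agent.ClassicalGeometry.PSL2Basic.card_PSL2_even E (by rw [hE]; decide)
    rw [this, hE]
    norm_num
  obtain ⟨e2⟩ := Cfsg.Agent.S0494.result h60'
  exact ⟨E, inferInstance, inferInstance, inferInstance, by rw [hE], ⟨e1.trans e2.symm⟩⟩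

theorem row_psl {F : Type} [Field F] [Fintype F] {K : Type*} [Group K] [Finite K] [IsSimpleGroup K]
    (hna : ∃ a b : K, a * b ≠ b * a) (e : K ≃* Matrix.ProjectiveSpecialLinearGroup (Fin 2) F) :
    EvRow K ∨ L2 K := by
  have hcard : Nat.card K = Nat.card (Matrix.ProjectiveSpecialLinearGroup (Fin 2) F) := Nat.card_congr e.toEquiv
  have hq : 4 ≤ Fintype.card F := by
    by_contra hlt
    have h1 : 1 < Fintype.card F := Fintype.one_lt_card
    have h2 : Nat.card K = 6 ∨ Nat.card K = 12 := by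
      rw [hcard]
      have h3 : Fintype.card F = 2 ∨ Fintype.card F = 3 := by omega
      rcases h3 with h3 | h3
      · left
        have := Cfsg.Agent.ClassicalGeometry.PSL2Basic.card_PSL2_even F (by rw [h3]; decide)
        rw [this, h3]
        norm_num
      · right
        have := Cfsg.Agent.ClassicalGeometry.PSL2Basic.card_PSL2_odd F (by rw [h3]; decide)
        rw [h3] at this
        omega
    have h3 := Cfsg.Agent.S0493.result (G := K) (by
      intro hc
      obtain ⟨a, b, hab⟩ := hna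
      exact hab (IsCyclic.isMulCommutative.is_comm.comm a b)) (by omega)
    omega
  rcases Nat.even_or_odd (Fintype.card F) with he | ho
  · right
    obtain ⟨r, hr⟩ := CharP.exists F
    have hrp : r.Prime := CharP.char_is_prime F r
    have : Fact r.Prime := ⟨hrp⟩
    obtain ⟨m, hm, hm2⟩ := FiniteField.card F r
    have hr2 : r = 2 := by
      rw [hm2] at he
      exact ((Nat.prime_dvd_prime_iff_eq Nat.prime_two hrp).1
        (Nat.prime_two.dvd_of_dvd_pow (even_iff_two_dvd.1 he))).symm
    subst hr2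
    exact ⟨F, _, _, hr, hq, ⟨e⟩⟩
  · by_cases h5 : Fintype.card F = 5
    · right
      apply l2_of_card
      rw [hcard]
      have := Cfsg.Agent.ClassicalGeometry.PSL2Basic.card_PSL2_odd F (by rw [h5]; decide)
      rw [h5] at this
      omega
    · left
      obtain ⟨k, hk⟩ := ho
      have h7 : 7 ≤ Fintype.card F := by omega
      exact (evRow_of_even (Cfsg.Agent.H714.PslMore.exists_vz_even ⟨k, hk⟩ h7)).mulEquiv e.symm

/-- **All simple groups of Lie type.** -/
theorem row_lie {p : ℕ} (hp : p.Prime) {K : Type*} [Group K] [Finite K] [IsSimpleGroup K]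
    (hna : ∃ a b : K, a * b ≠ b * a) (h : IsLieTypeChar p K) : EvRow K ∨ L2 K := by
  by_cases hp2 : p = 2
  · subst hp2
    exact row_two hna h
  · rcases Cfsg.Agent.H690.LieRow.lie_odd hp hp2 h with ⟨r, hr, hr2, hs, g, hg⟩ | ⟨F, i1, i2, ⟨e⟩⟩ | h2
    · have : Fact r.Prime := ⟨hr⟩
      left
      refine ⟨g, vz_of_hasSplit (p := r) hs ?_, ?_, ?_⟩
      · rw [hg]; exact Dvd.intro_left _ rfl
      · rw [hg]; exact Dvd.intro _ rfl
      · rw [hg]
        have := hr.two_le
        omega
    · exact row_psl hna e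
    · exact row_two hna h2

/-- Alternating groups. -/
theorem row_alt {K : Type*} [Group K] [Finite K] [IsSimpleGroup K] {n : ℕ} (hn : 5 ≤ n)
    (e : K ≃* alternatingGroup (Fin n)) : EvRow K ∨ L2 K := by
  rcases Nat.lt_or_ge n 6 with h | h
  · obtain rfl : n = 5 := by omega
    right
    apply l2_of_card
    rw [Nat.card_congr e.toEquiv, nat_card_alternatingGroup, Nat.card_fin]
    rfl
  · left
    exact (evRow_of_even (Cfsg.Agent.H714.AltFull.exists_vz_even h)).mulEquiv e.symm

/-- All known simple groups; the rows of `ON`, `Th`, `HN` are hypotheses. -/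
theorem row_known {K : Type u} [Group K] [Finite K] [IsSimpleGroup K] (hna : ∃ a b : K, a * b ≠ b * a)
    (hON : Spor.IsoON K → EvRow K) (hTh : Spor.IsoTh K → EvRow K) (hHN : Spor.IsoHN K → EvRow K)
    (h : IsKnownSimple' K) : EvRow K ∨ L2 K := by
  rcases Cfsg.Agent.OddHalf.Known.classify' (by
    obtain ⟨a, b, hab⟩ := hna
    intro h
    exact hab (h.is_comm.comm a b)) h with h | h | h | h
  · obtain ⟨n, hn, ⟨e⟩⟩ := h
    exact row_alt hn e
  · obtain ⟨p, hp, h⟩ := h
    exact row_lie hp hna h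
  · exact Or.inl (evRow_of_mix (Cfsg.Agent.H690.Spor.Tits.evMix h))
  · exact Or.inl (evRow_spor hON hTh hHN h)

/-- **The rows.** -/
theorem rowsEv (hK : ∀ (K : Type u) [Group K] [Finite K] [IsSimpleGroup K], IsKnownSimple' K)
    (hON : ∀ (K : Type u) [Group K] [Finite K], Spor.IsoON K → EvRow K)
    (hTh : ∀ (K : Type u) [Group K] [Finite K], Spor.IsoTh K → EvRow K)
    (hHN : ∀ (K : Type u) [Group K] [Finite K], Spor.IsoHN K → EvRow K) : RowsEv.{u} :=
  fun T _ _ _ hna => row_known hna (hON T) (hTh T) (hHN T) (hK T)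

end Cfsg.Agent.H419.VanOrd.RowLie
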