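import Cfsg.Agent.H419.VanOrd.Main
import Cfsg.Agent.H419.VanOrd.RowLie
import Cfsg.Agent.H723.Spor.ThMix
import Cfsg.Agent.H710.Spor.HNMix
import Cfsg.Agent.H620.ONVan

/-!
# S3649 from the classification (helper419)
-/

set_option autoImplicit false

namespace Cfsg.Agent.H419.VanOrd.Final

open Cfsg Cfsg.Agent.H713 Cfsg.Agent.H419.Spor.Table Cfsg.Agent.H419.VanOrd.RowLie

universe u v

/-- The rows from the classification. -/
theorem rows (hK : ∀ (K : Type u) [Group K] [Finite K] [IsSimpleGroup K], IsKnownSimple' K) : RowsEv.{u} :=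
  rowsEv hK (fun _ _ _ h => evRow_of_mix (Cfsg.Agent.H620.evMix_on h))
    (fun _ _ _ h => evRow_of_mix (Cfsg.Agent.H723.Spor.ThMix.evMix h))
    (fun _ _ _ h => evRow_of_mix (Cfsg.Agent.H710.Spor.HNMix.evMix h))

/-- S3649 from the classification. -/
theorem final (hK : ∀ (K : Type u) [Group K] [Finite K] [IsSimpleGroup K], IsKnownSimple' K)
    {F : Type v} [Field F] [Fintype F] (a : ℕ) (ha : 2 ≤ a) (hF : Fintype.card F = 2 ^ a)
    {G : Type u} [Group G] [Finite G]
    (h : {n : ℕ | ∃ g : G, (∃ χ : Cfsg.IrrCharacter G, (χ : G → ℂ) g = 0) ∧ orderOf g = n} =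
      {n : ℕ | ∃ g : (Matrix.ProjectiveSpecialLinearGroup (Fin 2) F),
        (∃ χ : Cfsg.IrrCharacter (Matrix.ProjectiveSpecialLinearGroup (Fin 2) F),
          (χ : (Matrix.ProjectiveSpecialLinearGroup (Fin 2) F) → ℂ) g = 0) ∧ orderOf g = n}) :
    Nonempty (G ≃* Matrix.ProjectiveSpecialLinearGroup (Fin 2) F) :=
  main (rows hK) a ha hF h

end Cfsg.Agent.H419.VanOrd.Final
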