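import Cfsg.Agent.H419.VanOrd.SolvFive
import Cfsg.Agent.H940.Basic

/-!
# No solvable group has the vanishing orders in question (helper419)
-/

set_option autoImplicit false

namespace Cfsg.Agent.H419.VanOrd

open Cfsg Cfsg.Agent.Characters Cfsg.Agent.Characters.Core Cfsg.Agent.H713 Cfsg.Agent.H690.Van
open Subgroup
open scoped commutatorElement

universe u v

/-- For every odd prime `s` among the orders of vanishing elements there is a second odd prime `r`
such that `r * s` is not such an order. -/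
def NoMix (G : Type*) [Group G] : Prop :=
  ∀ s : ℕ, s.Prime → s ≠ 2 → (∃ x : G, Van G x ∧ orderOf x = s) →
    ∃ r : ℕ, r.Prime ∧ r ≠ 2 ∧ r ≠ s ∧ (∃ x : G, Van G x ∧ orderOf x = r) ∧
      ∀ x : G, Van G x → orderOf x ≠ r * s

theorem closed_false {G : Type u} [Group G] [Finite G] [Group.IsSolvable G] (hE : Ev G)
    (hC : C2 G) (h2 : ∃ x : G, Van G x ∧ orderOf x = 2) (hP : NoMix G)
    (hodd : ∃ (x : G), Odd (orderOf x) ∧ orderOf x ≠ 1) : False := by
  classical
  have hF2 : Fact (Nat.Prime 2) := ⟨Nat.prime_two⟩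
  obtain ⟨T, hTn, hT2, hTi⟩ := hC
  obtain ⟨t, hvt, ht2⟩ := h2
  have hTnat : ¬ 2 ∣ Nat.card (G ⧸ T) := hTi
  have htT : t ∈ T := by
    rw [← QuotientGroup.eq_one_iff, ← orderOf_eq_one_iff]
    have h1 : orderOf (t : G ⧸ T) ∣ 2 := by
      rw [← ht2]
      exact orderOf_map_dvd (QuotientGroup.mk' T) t
    refine ((Nat.dvd_prime Nat.prime_two).1 h1).resolve_right fun h => hTnat ?_
    rw [← h]
    exact orderOf_dvd_natCard _
  obtain ⟨n, hn⟩ := IsPGroup.iff_card.1 hT2
  have hcopT : (Nat.card T).Coprime T.index := by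
    rw [hn]
    exact Nat.Coprime.pow_left _ ((Nat.Prime.coprime_iff_not_dvd Nat.prime_two).2 hTi)
  obtain ⟨K, hK⟩ := Subgroup.exists_right_complement'_of_coprime hcopT
  have hKcard : Nat.card K = T.index := hK.symm.index_eq_card.symm
  have hKo : ¬ 2 ∣ Nat.card K := by rw [hKcard]; exact hTi
  have hKodd : ∀ k ∈ K, Odd (orderOf k) := by
    intro k hk
    rw [← Nat.not_even_iff_odd, even_iff_two_dvd]
    exact fun h => hKo (h.trans (Subgroup.orderOf_dvd_natCard K hk))
  have hTK : ∀ g : G, ∃ t ∈ T, ∃ k ∈ K, g = t * k := by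
    intro g
    have h1 : g ∈ T ⊔ K := by rw [hK.sup_eq_top]; exact mem_top g
    rw [Subgroup.mem_sup_of_normal_left] at h1
    obtain ⟨a, ha, b, hb, hab⟩ := h1
    exact ⟨a, ha, b, hb, hab.symm⟩
  have hTKb : ∀ g, g ∈ T → g ∈ K → g = 1 := by
    intro g h1 h2
    have := hK.disjoint.le_bot ⟨h1, h2⟩
    exact mem_bot.1 this
  -- `K` acts faithfully on `T`
  have hXn : (K ⊓ centralizer (T : Set G)).Normal := by
    constructor
    intro x hx g
    obtain ⟨a, ha, k, hk, rfl⟩ := hTK g
    have hCn : (centralizer (T : Set G)).Normal := inferInstance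
    have h1 : k * x * k⁻¹ ∈ K ⊓ centralizer (T : Set G) :=
      ⟨K.mul_mem (K.mul_mem hk hx.1) (K.inv_mem hk), hCn.conj_mem x hx.2 k⟩
    have h2 : a * k * x * (a * k)⁻¹ = a * (k * x * k⁻¹) * a⁻¹ := by group
    rw [h2, mem_centralizer_iff.1 h1.2 a ha, mul_inv_cancel_right]
    exact h1
  have hKT : K ⊓ centralizer (T : Set G) = ⊥ := by
    refine odd_normal_bot hE T hT2 _ ?_ htT hvt ht2
    intro h
    exact hKo (h.trans (Subgroup.card_dvd_of_le inf_le_left))
  -- `K` is not trivial
  have hKnt : Nontrivial K := by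
    by_contra hcon
    rw [not_nontrivial_iff_subsingleton] at hcon
    obtain ⟨x, hx, hx1⟩ := hodd
    have h1 : Nat.card K = 1 := Nat.card_eq_one_iff_unique.2 ⟨hcon, ⟨1⟩⟩
    rw [hKcard, Subgroup.index_eq_one] at h1
    have h3 : x ∈ T := by rw [h1]; exact mem_top x
    obtain ⟨j, hj⟩ := orderOf_two_pow hT2 h3
    rcases Nat.eq_zero_or_pos j with rfl | hj0
    · exact hx1 (by rw [hj, pow_zero])
    · rw [hj, ← Nat.not_even_iff_odd] at hx
      exact hx (by rw [even_iff_two_dvd]; exact dvd_pow_self 2 hj0.ne')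
  obtain ⟨s, B0, hs, hB0n, hB0s, hB0c, hB0b, hmin⟩ := Cfsg.Agent.Solvable.Carter.exists_min_normal K
  have hsf : Fact s.Prime := ⟨hs⟩
  let B : Subgroup G := B0.map K.subtype
  have hBK : B ≤ K := by
    rintro _ ⟨b, -, rfl⟩
    exact b.2
  have hBn : ∀ k ∈ K, ∀ b ∈ B, k * b * k⁻¹ ∈ B := by
    rintro k hk _ ⟨b, hb, rfl⟩
    exact ⟨⟨k, hk⟩ * b * ⟨k, hk⟩⁻¹, hB0n.conj_mem b hb _, rfl⟩
  have hBc : ∀ a ∈ B, ∀ b ∈ B, a * b = b * a := by
    rintro _ ⟨a, ha, rfl⟩ _ ⟨b, hb, rfl⟩
    rw [← map_mul, ← map_mul, setLike_mul_comm ha hb]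
  have hBcard : Nat.card B = Nat.card B0 := Subgroup.card_map_of_injective K.subtype_injective
  have hvB : ∀ {g b u : G} {m : ℕ}, b ∈ B → b ≠ 1 → u ∈ T → g ^ m = b * u → Van G g :=
    fun hb hb1 hu hg => van_of_pow T K B hT2 hTK hKo hKT hBK hBn hBc hb hb1 hu hg
  have hfixB : ∀ b ∈ B, b ≠ 1 → ∀ u ∈ T, u * b = b * u → u = 1 := by
    intro b hb hb1
    refine fpf_of_van hE hT2 (hKodd b (hBK hb)) hb1 fun u hu => ?_
    exact hvB (m := 1) hb hb1 hu (pow_one _)
  -- the centre of `T`
  let V : Subgroup G := (center T).map T.subtype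
  have hVT : V ≤ T := by
    rintro _ ⟨v, -, rfl⟩
    exact v.2
  have hVn : V.Normal := ConjAct.normal_of_characteristic_of_normal
  have hVc : IsMulCommutative V := by
    refine ⟨⟨?_⟩⟩
    rintro ⟨_, a, ha, rfl⟩ ⟨_, b, hb, rfl⟩
    apply Subtype.ext
    show ((a * b : T) : G) = ((b * a : T) : G)
    rw [mem_center_iff.1 ha b]
  have hVb : V ≠ ⊥ := by
    intro h
    have hTnt : Nontrivial T := by
      refine ⟨⟨t, htT⟩, 1, fun h => ?_⟩
      have h1 : t = 1 := congrArg Subtype.val h
      rw [h1, orderOf_one] at ht2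
      omega
    have := hT2.center_nontrivial
    obtain ⟨z, hz⟩ := exists_ne (1 : center T)
    have h1 : ((z : T) : G) ∈ V := ⟨z, z.2, rfl⟩
    rw [h, mem_bot] at h1
    exact hz (Subtype.ext (Subtype.ext h1))
  have hVfix : ∀ a : G, (∀ u ∈ T, u * a = a * u → u = 1) → V ⊓ centralizer {a} = ⊥ := by
    intro a ha
    rw [Subgroup.eq_bot_iff_forall]
    rintro x ⟨hx, hxa⟩
    exact ha x (hVT hx) (mem_centralizer_singleton_iff.1 hxa)
  have hBcyc : IsCyclic B := by
    refine Cfsg.Agent.S0041.result B V hVb ?_ ?_ (Or.inl ?_)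
    · rw [normalizer_eq_top]
      exact le_top
    · intro a ha ha1
      exact hVfix a (hfixB a ha ha1)
    · exact ⟨⟨fun a b => Subtype.ext (hBc a a.2 b b.2)⟩⟩
  -- `B` has order `s`
  have hB0cyc : IsCyclic B0 := by
    have e : B0 ≃* B := B0.equivMapOfInjective K.subtype K.subtype_injective
    exact isCyclic_of_surjective (e.symm : B →* B0) e.symm.surjective
  have hsB0 : s ∣ Nat.card B0 := by
    obtain ⟨k, hk⟩ := IsPGroup.iff_card.1 hB0s
    rw [hk]
    refine dvd_pow_self s ?_
    rintro rfl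
    rw [pow_zero] at hk
    exact hB0b (Subgroup.card_eq_one.1 hk)
  have hB0e : ∀ b ∈ B0, b ^ s = 1 := by
    let L : Subgroup K :=
      { carrier := {b | b ∈ B0 ∧ b ^ s = 1}
        one_mem' := ⟨B0.one_mem, one_pow _⟩
        mul_mem' := by
          rintro a b ⟨ha, ha'⟩ ⟨hb, hb'⟩
          refine ⟨B0.mul_mem ha hb, ?_⟩
          have hc : Commute a b := setLike_mul_comm ha hb
          rw [hc.mul_pow, ha', hb', one_mul]
        inv_mem' := by
          rintro a ⟨ha, ha'⟩
          exact ⟨B0.inv_mem ha, by rw [inv_pow, ha', inv_one]⟩ }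
    have hL : L.Normal := by
      constructor
      rintro a ⟨ha, ha'⟩ g
      exact ⟨hB0n.conj_mem a ha g, by rw [conj_pow, ha']; group⟩
    rcases hmin L hL (fun a ha => ha.1) with h | h
    · exfalso
      obtain ⟨b, hb⟩ := exists_prime_orderOf_dvd_card' s hsB0
      have h1 : (b : K) ∈ L := by
        refine ⟨b.2, ?_⟩
        have h3 : b ^ s = 1 := by rw [← hb, pow_orderOf_eq_one]
        exact congrArg Subtype.val h3
      rw [h, mem_bot] at h1
      have h3 : b = 1 := Subtype.ext h1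
      rw [h3, orderOf_one] at hb
      exact hs.one_lt.ne hb
    · intro b hb
      rw [← h] at hb
      exact hb.2
  obtain ⟨β, hβ⟩ := hB0cyc.exists_generator
  have hβs : orderOf β = s := by
    have h1 : orderOf β ∣ s := by
      apply orderOf_dvd_of_pow_eq_one
      exact Subtype.ext (hB0e β β.2)
    rcases (Nat.dvd_prime hs).1 h1 with h3 | h3
    · exfalso
      rw [orderOf_eq_one_iff] at h3
      apply hB0b
      rw [Subgroup.eq_bot_iff_forall]
      intro x hx
      have h4 := hβ ⟨x, hx⟩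
      rw [h3, zpowers_one_eq_bot, mem_bot] at h4
      exact congrArg Subtype.val h4
    · exact h3
  have hB0card : Nat.card B0 = s := by
    rw [← hβs]
    exact (orderOf_eq_card_of_forall_mem_zpowers hβ).symm
  have hs2 : s ≠ 2 := by
    rintro rfl
    apply hKo
    exact hsB0.trans (Subgroup.card_subgroup_dvd_card B0)
  let b0 : G := ((β : K) : G)
  have hb0B : b0 ∈ B := ⟨β, β.2, rfl⟩
  have hb0s : orderOf b0 = s := by
    show orderOf ((β : K) : G) = s
    rw [Subgroup.orderOf_coe, Subgroup.orderOf_coe, hβs]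
  have hb01 : b0 ≠ 1 := by
    intro h
    rw [h, orderOf_one] at hb0s
    exact hs.one_lt.ne hb0s
  have hBgen : ∀ b ∈ B, b ∈ zpowers b0 := by
    rintro _ ⟨b, hb, rfl⟩
    obtain ⟨k, hk⟩ := mem_zpowers_iff.1 (hβ ⟨b, hb⟩)
    refine mem_zpowers_iff.2 ⟨k, ?_⟩
    show ((β : K) : G) ^ k = ((b : K) : G)
    rw [← Subgroup.coe_zpow, ← Subgroup.coe_zpow, hk]
  have hBgen' : ∀ b ∈ B, b ≠ 1 → b0 ∈ zpowers b := by
    intro b hb hb1
    have h1 : zpowers b ≤ B := by rwa [zpowers_le]
    have h3 : Nat.card (zpowers b) = s := by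
      have h4 : Nat.card (zpowers b) ∣ s := by
        rw [← hB0card, ← hBcard]
        exact Subgroup.card_dvd_of_le h1
      rcases (Nat.dvd_prime hs).1 h4 with h5 | h5
      · exfalso
        rw [Nat.card_zpowers, orderOf_eq_one_iff] at h5
        exact hb1 h5
      · exact h5
    have h4 : zpowers b = B := by
      apply Subgroup.eq_of_le_of_card_ge h1
      rw [h3, hBcard, hB0card]
    rw [h4]
    exact hb0B
  -- the second prime
  obtain ⟨r, hr, hr2, hrs, ⟨x, hx, hxr⟩, hno⟩ := hP s hs hs2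
    ⟨b0, hvB (m := 1) (u := 1) hb0B hb01 T.one_mem (by rw [pow_one, mul_one]), hb0s⟩
  have hrf : Fact r.Prime := ⟨hr⟩
  have hrK : r ∣ Nat.card K := by
    have h1 : r ∣ Nat.card T * T.index := by
      rw [Subgroup.card_mul_index, ← hxr]
      exact orderOf_dvd_natCard x
    rcases hr.dvd_mul.1 h1 with h3 | h3
    · exfalso
      rw [hn] at h3
      exact hr2 ((Nat.prime_dvd_prime_iff_eq hr Nat.prime_two).1 (hr.dvd_of_dvd_pow h3))
    · rw [hKcard]
      exact h3
  obtain ⟨y', hy'⟩ := exists_prime_orderOf_dvd_card' r hrK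
  let y : G := y'
  have hyK : y ∈ K := y'.2
  have hyr : orderOf y = r := by rw [← hy']; exact Subgroup.orderOf_coe y'
  have hy1 : y ≠ 1 := by
    intro h
    rw [h, orderOf_one] at hyr
    exact hr.one_lt.ne hyr
  have hrscop : r.Coprime s := (Nat.coprime_primes hr hs).2 hrs
  have hbr : b0 ^ r ≠ 1 := by
    intro h
    have h1 := orderOf_dvd_of_pow_eq_one h
    rw [hb0s, Nat.prime_dvd_prime_iff_eq hs hr] at h1
    exact hrs h1.symm
  by_cases hcomm : y * b0 = b0 * y
  · have hc : Commute y b0 := hcomm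
    refine hno (y * b0) ?_ ?_
    · refine hvB (m := r) (B.pow_mem hb0B r) hbr T.one_mem ?_
      rw [hc.mul_pow, mul_one, ← hyr, pow_orderOf_eq_one, one_mul]
    · rw [hc.orderOf_mul_eq_mul_orderOf_of_coprime (by rw [hyr, hb0s]; exact hrscop), hyr, hb0s]
  -- elements of `K` not commuting with `b0`
  have hfixN : ∀ a ∈ K, a * b0 ≠ b0 * a → ∀ u ∈ T, u * a = a * u → u = 1 := by
    intro a ha hab
    have ha1 : a ≠ 1 := by
      rintro rfl
      exact hab (by rw [one_mul, mul_one])
    refine fpf_of_van hE hT2 (hKodd a ha) ha1 fun u hu => ?_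
    refine Van.of_surjective (QuotientGroup.mk' T) (QuotientGroup.mk'_surjective T) ?_
    have h1 : (QuotientGroup.mk' T) (a * u) = (a : G ⧸ T) := by
      rw [map_mul]
      have : (QuotientGroup.mk' T) u = 1 := (QuotientGroup.eq_one_iff u).2 hu
      rw [this, mul_one]
      rfl
    rw [h1]
    have hBTn : (B.map (QuotientGroup.mk' T)).Normal := by
      constructor
      rintro _ ⟨b, hb, rfl⟩ g
      obtain ⟨g, rfl⟩ := QuotientGroup.mk_surjective g
      obtain ⟨c, hc, k, hk, rfl⟩ := hTK g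
      refine ⟨k * b * k⁻¹, hBn k hk b hb, ?_⟩
      have h3 : (((c * k : G) : G ⧸ T)) = (k : G ⧸ T) := by
        rw [QuotientGroup.mk_mul, (QuotientGroup.eq_one_iff c).2 hc, one_mul]
      rw [h3]
      rfl
    refine Vn.of_fpf (B.map (QuotientGroup.mk' T)) ?_ (a : G ⧸ T) ?_
    · intro h
      have h3 : (b0 : G ⧸ T) ∈ B.map (QuotientGroup.mk' T) := ⟨b0, hb0B, rfl⟩
      rw [h, mem_bot, QuotientGroup.eq_one_iff] at h3
      exact hb01 (hTKb b0 h3 (hBK hb0B))
    · rintro _ ⟨b, hb, rfl⟩ hba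
      have h3 : b * a * b⁻¹ * a⁻¹ ∈ T := by
        rw [← QuotientGroup.eq_one_iff, QuotientGroup.mk_mul, QuotientGroup.mk_mul,
          QuotientGroup.mk_mul, QuotientGroup.mk_inv, QuotientGroup.mk_inv]
        have h4 : (b : G ⧸ T) * (a : G ⧸ T) = (a : G ⧸ T) * (b : G ⧸ T) := hba
        rw [h4]
        group
      have h4 : b * a * b⁻¹ * a⁻¹ ∈ K :=
        K.mul_mem (K.mul_mem (K.mul_mem (hBK hb) ha) (K.inv_mem (hBK hb))) (K.inv_mem ha)
      have h5 := hTKb _ h3 h4
      have h6 : Commute b a := by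
        show b * a = a * b
        have h7 := mul_inv_eq_one.1 h5
        exact mul_inv_eq_iff_eq_mul.1 h7
      by_contra hb1
      have hb1' : b ≠ 1 := by
        rintro rfl
        exact hb1 (map_one _)
      obtain ⟨k, hk⟩ := mem_zpowers_iff.1 (hBgen' b hb hb1')
      apply hab
      have h7 : Commute (b ^ k) a := h6.zpow_left k
      rw [hk] at h7
      exact h7.symm
  -- the group generated by `B` and `y`
  let A : Subgroup G := zpowers y ⊔ B
  have hyB : zpowers y ≤ normalizer (B : Set G) := by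
    rw [zpowers_le, mem_normalizer_iff]
    intro b
    constructor
    · intro hb
      exact hBn y hyK b hb
    · intro hb
      have h1 := hBn y⁻¹ (K.inv_mem hyK) _ hb
      have h3 : y⁻¹ * (y * b * y⁻¹) * y⁻¹⁻¹ = b := by group
      rwa [h3] at h1
  have hAK : A ≤ K := sup_le (by rw [zpowers_le]; exact hyK) hBK
  have hinf : zpowers y ⊓ B = ⊥ := by
    apply Subgroup.inf_eq_bot_of_coprime
    rw [Nat.card_zpowers, hyr, hBcard, hB0card]
    exact hrscop
  have hAcard : Nat.card A = r * s := by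
    have h1 := Cfsg.Agent.GH.C2GrowG.card_sup hyB
    rw [hinf, Subgroup.card_bot, mul_one, Nat.card_zpowers, hyr, hBcard, hB0card] at h1
    exact h1
  have hAcyc : IsCyclic A := by
    refine Cfsg.Agent.S0041.result A V hVb ?_ ?_ (Or.inr ⟨r, s, hr, hs, hAcard⟩)
    · rw [normalizer_eq_top]
      exact le_top
    · intro a ha ha1
      apply hVfix
      by_cases hab : a * b0 = b0 * a
      · -- then `a ∈ B`
        have haB : a ∈ B := by
          obtain ⟨c, hc, b, hb, rfl⟩ := Cfsg.Agent.H940.exists_mul_of_mem_sup hyB ha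
          have h3 : c * b0 = b0 * c := by
            have h4 : c * b * b0 = c * b0 * b := by rw [mul_assoc, hBc b hb b0 hb0B, mul_assoc]
            rw [h4, ← mul_assoc] at hab
            exact mul_right_cancel hab
          have hc1 : c = 1 := by
            by_contra hc1
            apply hcomm
            have h4 : zpowers c = zpowers y := by
              have h5 : zpowers c ≤ zpowers y := by rwa [zpowers_le]
              apply Subgroup.eq_of_le_of_card_ge h5
              have h6 : Nat.card (zpowers c) ∣ r := by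
                rw [← hyr, ← Nat.card_zpowers]
                exact Subgroup.card_dvd_of_le h5
              rcases (Nat.dvd_prime hr).1 h6 with h7 | h7
              · exfalso
                rw [Nat.card_zpowers, orderOf_eq_one_iff] at h7
                exact hc1 h7
              · rw [h7, Nat.card_zpowers, hyr]
            have h5 : y ∈ zpowers c := by rw [h4]; exact mem_zpowers y
            obtain ⟨k, hk⟩ := mem_zpowers_iff.1 h5
            have h6 : Commute c b0 := h3
            have h7 : Commute (c ^ k) b0 := h6.zpow_left k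
            rw [hk] at h7
            exact h7
          rw [hc1, one_mul]
          exact hb
        exact hfixB a haB ha1
      · exact hfixN a (hAK ha) hab
  apply hcomm
  have hyA : y ∈ A := (le_sup_left : zpowers y ≤ A) (mem_zpowers y)
  have hbA : b0 ∈ A := (le_sup_right : B ≤ A) hb0B
  have h1 : (⟨y, hyA⟩ : A) * ⟨b0, hbA⟩ = ⟨b0, hbA⟩ * ⟨y, hyA⟩ := by
    have := hAcyc.commGroup
    exact mul_comm' _ _
  exact congrArg Subtype.val h1

/-- A finite group with property `Ev`, vanishing involutions, vanishing elements of odd order and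
property `NoMix` is not solvable. -/
theorem not_solvable {G : Type u} [Group G] [Finite G] (hE : Ev G)
    (h2 : ∃ x : G, Van G x ∧ orderOf x = 2) (hodd : ∃ x : G, Van G x ∧ Odd (orderOf x))
    (hP : NoMix G) : ¬ Group.IsSolvable G := by
  intro hs
  obtain ⟨x, hx, hxo⟩ := hodd
  refine closed_false hE (closed_of_odd hE hx hxo) h2 hP ⟨x, hxo, ?_⟩
  intro h
  rw [orderOf_eq_one_iff] at h
  rw [h] at hx
  exact not_vn_one hx

end Cfsg.Agent.H419.VanOrd
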