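import Cfsg.Agent.H419.VanOrd.LTwo
import Cfsg.Agent.H419.VanOrd.SolvSix
import Cfsg.Agent.H419.Count
import Cfsg.Agent.H478.KleinEven

/-!
# Orders of vanishing elements of `PSL(2, 2^f)` (helper419)
-/

set_option autoImplicit false

namespace Cfsg.Agent.H419.VanOrd

open Cfsg Cfsg.Agent.H713 MulAction Cfsg.Agent.TwoFusion.ElemCentSylow
open scoped Pointwise

universe u v

section

variable {T : Type u} [Group T] [Finite T]

/-- Element orders in a group with `Ctx T q`. -/
theorem order_cases {q : ℕ} (c : Ctx T q) {P Q : Sylow 2 T} (hPQ : P ≠ Q) (g : T) :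
    orderOf g ∣ q + 1 ∨ orderOf g ∣ q * (q - 1) := by
  by_cases h : ∀ R : Sylow 2 T, g • R ≠ R
  · exact Or.inl (Cfsg.Agent.H723.L2Even.dvd_of_free c hPQ h)
  · push Not at h
    obtain ⟨R, hR⟩ := h
    refine Or.inr ?_
    rw [← c.stab R]
    have h2 : orderOf (⟨g, hR⟩ : stabilizer T R) = orderOf g := Subgroup.orderOf_mk g hR
    rw [← h2]
    exact orderOf_dvd_natCard _

/-- The centralizer of an element of odd order fixing two points. -/
theorem card_centralizer_le {q : ℕ} (c : Ctx T q) {P Q : Sylow 2 T} (hPQ : P ≠ Q) {y : T}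
    (hyP : y • P = P) (hyQ : y • Q = Q) (hy1 : y ≠ 1) (hy : Odd (orderOf y)) :
    Nat.card (Subgroup.centralizer ({y} : Set T)) ≤ q - 1 := by
  rw [← c.inter_card hPQ]
  have hle : Subgroup.centralizer ({y} : Set T) ≤ stabilizer T P ⊓ stabilizer T Q := by
    intro g hg
    rw [Subgroup.mem_centralizer_singleton_iff] at hg
    have hfix : ∀ R : Sylow 2 T, y • R = R → R = P ∨ R = Q := by
      intro R hR
      by_contra hcon
      push Not at hcon
      exact hy1 (c.eq_one_of_fix_three hPQ hcon.1.symm hcon.2.symm hyP hyQ hR)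
    have hg' : ∀ R : Sylow 2 T, y • R = R → y • (g • R) = g • R := by
      intro R hR
      rw [smul_smul, ← hg, ← smul_smul, hR]
    rcases hfix _ (hg' P hyP) with h1 | h1
    · rcases hfix _ (hg' Q hyQ) with h2 | h2
      · exfalso
        apply hPQ
        exact smul_left_cancel g (h1.trans h2.symm)
      · exact ⟨h1, h2⟩
    · exfalso
      obtain ⟨t, ht, htPQ, htQP⟩ := c.exists_swap P Q
      have h2 : g • Q = P := by
        rcases hfix _ (hg' Q hyQ) with h2 | h2
        · exact h2
        · exact absurd (smul_left_cancel g (h1.trans h2.symm)) hPQ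
      set d := t⁻¹ * g with hd
      have hdP : d • P = P := by rw [hd, mul_smul, h1, inv_smul_eq_iff, htPQ]
      have hdQ : d • Q = Q := by rw [hd, mul_smul, h2, inv_smul_eq_iff, htQP]
      have h3 := c.inter_comm hPQ hdP hdQ hyP hyQ
      have h4 := c.inverts hPQ ht htPQ hyP hyQ
      have h5 : g = t * d := by rw [hd]; group
      have h6 : g * y * g⁻¹ = y⁻¹ := by
        have h7 : g * y * g⁻¹ = t * (d * y * d⁻¹) * t⁻¹ := by rw [h5]; group
        rw [h7, h3, mul_inv_cancel_right, h4]
      have h7 : g * y * g⁻¹ = y := by rw [hg, mul_inv_cancel_right]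
      rw [h7] at h6
      have h8 : y ^ 2 = 1 := by
        rw [pow_two]
        nth_rw 1 [h6]
        exact inv_mul_cancel y
      rcases (Nat.dvd_prime Nat.prime_two).1 (orderOf_dvd_of_pow_eq_one h8) with h9 | h9
      · exact hy1 (orderOf_eq_one_iff.1 h9)
      · rw [h9] at hy
        exact absurd hy (by decide)
  exact Nat.card_le_card_of_injective _ (Subgroup.inclusion_injective hle)

variable {F : Type v} [Field F] [Fintype F] [CharP F 2]
  (e : T ≃* Matrix.ProjectiveSpecialLinearGroup (Fin 2) F)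

include e in
/-- `PSL(2, q)`, `q` even, has at least `q` classes. -/
theorem card_le_classes : Fintype.card F ≤ Nat.card (ConjClasses T) := by
  classical
  let e' : T ≃* Matrix.SpecialLinearGroup (Fin 2) F := e.trans Cfsg.Agent.H478.KleinEven.pslEquiv
  let f : ConjClasses T → F := Quotient.lift (fun x => ((e' x : Matrix.SpecialLinearGroup (Fin 2) F) :
    Matrix (Fin 2) (Fin 2) F).trace) (by
      intro a b hab
      obtain ⟨c, hc⟩ := isConj_iff.1 hab
      show ((e' a : Matrix.SpecialLinearGroup (Fin 2) F) : Matrix (Fin 2) (Fin 2) F).trace =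
        ((e' b : Matrix.SpecialLinearGroup (Fin 2) F) : Matrix (Fin 2) (Fin 2) F).trace
      rw [← hc, map_mul, map_mul, map_inv, Matrix.SpecialLinearGroup.coe_mul, Matrix.trace_mul_comm,
        ← Matrix.SpecialLinearGroup.coe_mul, inv_mul_cancel_left])
  have hf : Function.Surjective f := by
    intro t
    let M : Matrix.SpecialLinearGroup (Fin 2) F := ⟨!![t, -1; 1, 0], by simp [Matrix.det_fin_two]⟩
    refine ⟨ConjClasses.mk (e'.symm M), ?_⟩
    show ((e' (e'.symm M) : Matrix.SpecialLinearGroup (Fin 2) F) : Matrix (Fin 2) (Fin 2) F).trace = t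
    rw [MulEquiv.apply_symm_apply]
    show (!![t, -1; 1, 0] : Matrix (Fin 2) (Fin 2) F).trace = t
    simp [Matrix.trace_fin_two]
  rw [← Nat.card_eq_fintype_card]
  exact Nat.card_le_card_of_surjective f hf

include e in
/-- Elements of odd order dividing `q - 1` of `PSL(2, q)`, `q` even, vanish. -/
theorem van_of_dvd_sub (h4 : 4 ≤ Fintype.card F) {r : ℕ} (hr : r.Prime)
    (hrq : r ∣ Fintype.card F - 1) : ∃ y : T, Van T y ∧ orderOf y = r := by
  classical
  obtain ⟨c, P, Q, hPQ⟩ := Cfsg.Agent.H723.L2Even.ctx e h4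
  have : Fact r.Prime := ⟨hr⟩
  rw [← c.inter_card hPQ] at hrq
  obtain ⟨⟨y, hy⟩, hyr⟩ := exists_prime_orderOf_dvd_card' r hrq
  rw [Subgroup.orderOf_mk] at hyr
  have hodd : Odd r := by
    apply hr.odd_of_ne_two
    rintro rfl
    rw [c.inter_card hPQ] at hrq
    obtain ⟨k, hk⟩ := Cfsg.Agent.H723.L2Even.card_even (F := F)
    omega
  have hy1 : y ≠ 1 := by
    rintro rfl
    rw [orderOf_one] at hyr
    exact hr.one_lt.ne hyr
  refine ⟨y, Cfsg.Agent.H419.Count.van_of_card_lt ?_, hyr⟩
  have h1 := card_centralizer_le c hPQ hy.1 hy.2 hy1 (hyr ▸ hodd)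
  have h2 := card_le_classes e
  omega

include e in
/-- Elements of prime order `r` dividing `q + 1` vanish. -/
theorem van_of_dvd_add (h4 : 4 ≤ Fintype.card F) {r : ℕ} (hr : r.Prime)
    (hrq : r ∣ Fintype.card F + 1) : ∃ y : T, Van T y ∧ orderOf y = r := by
  obtain ⟨x, hx⟩ := Cfsg.Agent.H723.L2Even.exists_order e h4
  obtain ⟨m, hm⟩ := hrq
  have hm0 : 0 < m := Nat.pos_of_ne_zero (by rintro rfl; omega)
  have ho : orderOf (x ^ m) = r := by
    rw [orderOf_pow, hx, hm, Nat.gcd_eq_right (Dvd.intro_left r rfl), Nat.mul_div_cancel _ hm0]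
  have h1 : x ^ m ≠ 1 := by
    intro h
    rw [h, orderOf_one] at ho
    exact hr.one_lt.ne ho
  exact ⟨x ^ m, (Cfsg.Agent.H723.L2Even.vz_of_dvd e h4 h1 (by rw [ho, hm]; exact Dvd.intro _ rfl)).van, ho⟩

include e in
theorem noMix (h4 : 4 ≤ Fintype.card F) : NoMix T := by
  obtain ⟨c, P, Q, hPQ⟩ := Cfsg.Agent.H723.L2Even.ctx e h4
  have heven := Cfsg.Agent.H723.L2Even.card_even (F := F)
  have hco := Cfsg.Agent.H723.L2Even.coprime_arith heven h4
  set q := Fintype.card F with hq
  rintro s hs hs2 ⟨x, hx, hxs⟩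
  -- no element has order divisible by primes of both kinds
  have hno : ∀ a b : ℕ, a.Prime → b.Prime → a ∣ q + 1 → b ∣ q * (q - 1) → ∀ g : T,
      orderOf g ≠ a * b := by
    intro a b ha hb haq hbq g hg
    rcases order_cases c hPQ g with h | h
    · rw [hg] at h
      exact hb.one_lt.ne' (Nat.eq_one_of_dvd_coprimes hco ((Dvd.intro_left a rfl).trans h) hbq)
    · rw [hg] at h
      exact ha.one_lt.ne' (Nat.eq_one_of_dvd_coprimes hco haq ((Dvd.intro b rfl).trans h))
  rcases order_cases c hPQ x with h | h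
  · rw [hxs] at h
    -- `s` divides `q + 1`
    obtain ⟨r, hr, hrq⟩ := Nat.exists_prime_and_dvd (n := q - 1) (by omega)
    have hrq' : r ∣ q * (q - 1) := Dvd.dvd.mul_left hrq q
    have hne : r ≠ s := by
      rintro rfl
      exact hr.one_lt.ne' (Nat.eq_one_of_dvd_coprimes hco h hrq')
    refine ⟨r, hr, ?_, hne, van_of_dvd_sub e h4 hr hrq, fun g _ hg => ?_⟩
    · rintro rfl
      obtain ⟨k, hk⟩ := heven
      omega
    · exact hno s r hs hr h hrq' g (by rw [hg, mul_comm])
  · rw [hxs] at h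
    obtain ⟨r, hr, hrq⟩ := Nat.exists_prime_and_dvd (n := q + 1) (by omega)
    have hne : r ≠ s := by
      rintro rfl
      exact hr.one_lt.ne' (Nat.eq_one_of_dvd_coprimes hco hrq h)
    refine ⟨r, hr, ?_, hne, van_of_dvd_add e h4 hr hrq, fun g _ hg => ?_⟩
    · rintro rfl
      obtain ⟨k, hk⟩ := heven
      omega
    · exact hno r s hr hs hrq h g hg

end

end Cfsg.Agent.H419.VanOrd
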