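import Mathlib
import Cfsg.Agent.H690.Van
import Cfsg.Agent.H690.RegOrb
import Cfsg.Agent.H713.Van
import Cfsg.Agent.Characters.Linear

/-!
# Groups whose vanishing elements of even order are involutions: tools (helper419)
-/

set_option autoImplicit false

namespace Cfsg.Agent.H419.VanOrd

open Cfsg Cfsg.Agent.Characters Cfsg.Agent.H713 Cfsg.Agent.H690.Van

universe u v

/-- Vanishing elements of even order are involutions. -/
def Ev (G : Type*) [Group G] : Prop := ∀ x : G, Van G x → 2 ∣ orderOf x → orderOf x = 2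

theorem Ev.of_surjective {G : Type*} {H : Type*} [Group G] [Group H] (f : G →* H)
    (hf : Function.Surjective f) (h : Ev G) : Ev H := by
  intro y hy h2
  obtain ⟨x, rfl⟩ := hf y
  have h1 : orderOf (f x) ∣ orderOf x := orderOf_map_dvd f x
  have h3 := h x (hy.of_surjective f hf) (h2.trans h1)
  rw [h3] at h1
  exact Nat.dvd_antisymm h1 h2

theorem Ev.quot {G : Type*} [Group G] (N : Subgroup G) [N.Normal] (h : Ev G) : Ev (G ⧸ N) :=
  h.of_surjective (QuotientGroup.mk' N) (QuotientGroup.mk'_surjective N)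

theorem Ev.mulEquiv {G : Type*} {H : Type*} [Group G] [Group H] (e : G ≃* H) (h : Ev G) : Ev H :=
  h.of_surjective e.toMonoidHom e.surjective

/-- A commutative normal coprime group of automorphisms induced on an abelian normal subgroup
consists, apart from the identity, of images of vanishing elements. -/
theorem van_of_regular {Q : Type u} [Group Q] [Finite Q] (X : Subgroup Q) [hX : X.Normal]
    (hXc : ∀ a ∈ X, ∀ b ∈ X, a * b = b * a) (Z : Subgroup (MulAut X))
    (hZc : ∀ a ∈ Z, ∀ b ∈ Z, a * b = b * a)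
    (hZn : ∀ g : Q, ∀ a ∈ Z, (MulAut.conjNormal g : MulAut X) * a * (MulAut.conjNormal g)⁻¹ ∈ Z)
    (hcop : (Nat.card Z).Coprime (Nat.card X)) {x : Q} {m : ℕ}
    (h1 : (MulAut.conjNormal x : MulAut X) ^ m ∈ Z) (h2 : (MulAut.conjNormal x : MulAut X) ^ m ≠ 1) :
    Van Q x := by
  classical
  let _ : CommGroup X := { (inferInstance : Group X) with
    mul_comm := fun a b => Subtype.ext (hXc a a.2 b b.2) }
  obtain ⟨l, hl⟩ := Cfsg.Agent.H690.RegOrb.exists_char (L := X) (K := Z) Z.subtype
    (fun a b => by rw [map_mul, map_mul]; exact hZc a a.2 b b.2)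
    (by rw [Subgroup.range_subtype]; exact hcop)
  refine Vn.of_not_inertia X (fun x => (l x : ℂ)) (Linear.isIrrCharacter_hom l) x ?_
  intro g hg
  have h3 : ∀ n : X, l ((MulAut.conjNormal (g * x * g⁻¹) : MulAut X) n) = l n := by
    intro n
    apply Units.ext
    exact hg n
  have h4 : ∀ (k : ℕ) (n : X), l (((MulAut.conjNormal (g * x * g⁻¹) : MulAut X) ^ k) n) = l n := by
    intro k
    induction k with
    | zero => intro n; rfl
    | succ k ih =>
      intro n
      rw [pow_succ, MulAut.mul_apply, ih, h3]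
  have h5 : (MulAut.conjNormal (g * x * g⁻¹) : MulAut X) ^ m =
      (MulAut.conjNormal g : MulAut X) * (MulAut.conjNormal x) ^ m * (MulAut.conjNormal g)⁻¹ := by
    rw [map_mul, map_mul, map_inv, conj_pow]
  have h6 := hZn g _ h1
  have h7 := hl ⟨_, h6⟩ (fun n => by have h8 := h4 m n; rw [h5] at h8; exact h8)
  apply h2
  have h8 : (MulAut.conjNormal g : MulAut X) * (MulAut.conjNormal x) ^ m * (MulAut.conjNormal g)⁻¹ = 1 := h7
  rw [mul_inv_eq_one] at h8
  exact mul_eq_left.1 h8

end Cfsg.Agent.H419.VanOrd
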