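import Cfsg.Agent.H713.Reduce
import Cfsg.Agent.H419.VanOrd.Reg

/-!
# Non-abelian minimal normal subgroups (helper419)
-/

set_option autoImplicit false
set_option linter.dupNamespace false

namespace Cfsg.Agent.H419.VanOrd

open Cfsg Cfsg.Agent.H713 Cfsg.Agent.Characters.Core Subgroup

universe u v

/-- A non-abelian minimal normal subgroup `N` has a simple subgroup `T` whose `VZ` elements vanish
in the group; if `T ≠ N` then there are vanishing elements whose order is divisible by the orders
of a given `VZ` element and another given element of `T`. -/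
theorem minimal_cases {G : Type u} [Group G] [Finite G] (N : Subgroup G) [N.Normal]
    (hmin : ∀ M : Subgroup G, M.Normal → M ≤ N → M = ⊥ ∨ M = N)
    (hna : ¬ ∀ x ∈ N, ∀ y ∈ N, Commute x y) :
    ∃ T : Subgroup G, T ≤ N ∧ IsSimpleGroup T ∧ (∃ a b : T, a * b ≠ b * a) ∧
      (∀ x : T, VZ T x → Van G (x : G)) ∧
      (N = T ∨ ∀ x : T, VZ T x → ∀ z : T, ∃ g : G, Van G g ∧ orderOf x ∣ orderOf g ∧
        orderOf z ∣ orderOf g) := by
  classical
  obtain ⟨m, T, e, hm, hsimple, hTna, hTinj, hTN, hTn, hconj, htrans, he, hcoord⟩ :=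
    Cfsg.Agent.PermutationGroups.OnanScott.exists_coordinates N hmin hna
  set o : Fin m := ⟨0, hm⟩ with ho
  have hvan : ∀ x : T o, VZ (T o) x → ∀ n : N, e n o = x → Van G (n : G) := by
    rintro x ⟨θ, hθ⟩ n hn
    choose g hg using fun i => htrans o i
    have := Fintype.ofFinite (T o)
    let Θ : N → ℂ := fun n => ∏ i, (θ : T o → ℂ) ((conjIso (g i) (hg i)).symm (e n i))
    have hΘ : IsIrrCharacter N Θ := by
      have h1 := isIrr_pi (ι := Fin m) θ.2
      let E : N ≃* (Fin m → T o) := e.trans (MulEquiv.piCongrRight fun i => (conjIso (g i) (hg i)).symm)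
      exact isIrr_comp (E : N →* (Fin m → T o)) E.surjective h1
    obtain ⟨χ, hχ⟩ := exists_lift N hΘ
    refine ⟨χ, hχ n fun k => ?_⟩
    obtain ⟨j, hj⟩ := hconj k o
    refine Finset.prod_eq_zero (Finset.mem_univ j) ?_
    have h1 := coord_conj e hTN he hcoord k o j hj n
    have h2 : e (MulAut.conjNormal k n) j = conjIso k hj x := by
      apply Subtype.ext
      rw [h1, conjIso_apply, hn]
    rw [h2]
    exact hθ ((conjIso k hj).trans (conjIso (g j) (hg j)).symm)
  refine ⟨T o, hTN o, hsimple o, hTna o, ?_, ?_⟩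
  · intro x hx
    have h1 := hvan x hx (e.symm (Pi.mulSingle o x)) (by simp)
    rwa [he] at h1
  · rcases Nat.lt_or_ge 1 m with hm2 | hm1
    · refine Or.inr ?_
      intro x hx z
      set l : Fin m := ⟨1, hm2⟩ with hl
      have hol : o ≠ l := by simp [ho, hl]
      obtain ⟨g, hg⟩ := htrans o l
      set y : T l := conjIso g hg z with hy
      set n : N := e.symm (Pi.mulSingle o x * Pi.mulSingle l y) with hn
      have e1 : e n o = x := by
        rw [hn, MulEquiv.apply_symm_apply, Pi.mul_apply, Pi.mulSingle_eq_same,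
          Pi.mulSingle_eq_of_ne hol, mul_one]
      have e2 : e n l = y := by
        rw [hn, MulEquiv.apply_symm_apply, Pi.mul_apply, Pi.mulSingle_eq_same,
          Pi.mulSingle_eq_of_ne hol.symm, one_mul]
      have hord : ∀ i : Fin m, orderOf (e n i) ∣ orderOf (n : G) := by
        intro i
        have h1 := orderOf_map_dvd ((Pi.evalMonoidHom (fun i => T i) i).comp (e : N →* ∀ i, T i)) n
        rwa [Subgroup.orderOf_coe]
      refine ⟨n, hvan x hx n e1, ?_, ?_⟩
      · have := hord o
        rwa [e1] at this
      · have := hord l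
        rw [e2, hy, MulEquiv.orderOf_eq] at this
        exact this
    · refine Or.inl ?_
      have hm' : ∀ i : Fin m, i = o := by
        intro i
        apply Fin.ext
        have := i.2
        simp only [ho]
        omega
      apply le_antisymm _ (hTN o)
      intro n hn
      have h1 : (⟨n, hn⟩ : N) = e.symm (Pi.mulSingle o (e ⟨n, hn⟩ o)) := by
        apply e.injective
        rw [MulEquiv.apply_symm_apply]
        funext i
        rw [hm' i, Pi.mulSingle_eq_same]
      have h2 := congrArg (Subtype.val : N → G) h1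
      rw [he] at h2
      rw [show n = ((⟨n, hn⟩ : N) : G) from rfl, h2]
      exact (e ⟨n, hn⟩ o).2

end Cfsg.Agent.H419.VanOrd
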