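import Cfsg.Agent.H419.VanOrd.LTwo
import Cfsg.Agent.H419.VanOrd.Minimal

/-!
# Non-solvable groups whose vanishing elements of even order are involutions (helper419)
-/

set_option autoImplicit false

namespace Cfsg.Agent.H419.VanOrd

open Cfsg Cfsg.Agent.H713 Subgroup

universe u v

/-- What is needed on the simple groups. -/
def RowsEv : Prop :=
  ∀ (T : Type u) [Group T] [Finite T] [IsSimpleGroup T], (∃ a b : T, a * b ≠ b * a) →
    (∃ x : T, VZ T x ∧ 2 ∣ orderOf x ∧ orderOf x ≠ 2) ∨ L2 T

/-- A non-abelian minimal normal subgroup of a group with property `Ev` is `PSL(2, 2^f)`. -/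
theorem minimal_l2 (hR : RowsEv.{u}) {G : Type u} [Group G] [Finite G] (hE : Ev G) (N : Subgroup G)
    [N.Normal] (hmin : ∀ M : Subgroup G, M.Normal → M ≤ N → M = ⊥ ∨ M = N)
    (hna : ¬ ∀ x ∈ N, ∀ y ∈ N, Commute x y) : L2 N := by
  obtain ⟨T, hTN, hTs, hTna, hvan, hT⟩ := minimal_cases N hmin hna
  rcases hR T hTna with ⟨x, hx, hx2, hxn⟩ | hL
  · exfalso
    apply hxn
    have h1 := hE _ (hvan x hx)
    rw [Subgroup.orderOf_coe] at h1
    exact h1 hx2
  · rcases hT with rfl | hT
    · exact hL
    · exfalso
      have hf := hL.facts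
      obtain ⟨s, t, hs, -, -⟩ := hf.klein
      obtain ⟨y, hy, hy1, -⟩ := hf.odd
      obtain ⟨g, hg, h1, h2⟩ := hT s (hf.inv s hs) y
      rw [hs] at h1
      have h3 := hE g hg h1
      rw [h3] at h2
      rcases (Nat.dvd_prime Nat.prime_two).1 h2 with h4 | h4
      · exact hy1 (orderOf_eq_one_iff.1 h4)
      · rw [h4] at hy
        exact absurd hy (by decide)

theorem card_quot_lt {G : Type u} [Group G] [Finite G] (L : Subgroup G) [L.Normal] (hL : L ≠ ⊥) :
    Nat.card (G ⧸ L) < Nat.card G := by
  have h1 := Subgroup.card_eq_card_quotient_mul_card_subgroup L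
  have h2 : 1 < Nat.card L := by
    rw [Subgroup.one_lt_card_iff_ne_bot]; exact hL
  have h3 : 0 < Nat.card (G ⧸ L) := Nat.card_pos
  rw [h1]
  nlinarith

/-- No extension of `PSL(2, 2^f)` by a minimal normal subgroup has property `Ev`. -/
theorem ext_false (hR : RowsEv.{u}) {G : Type u} [Group G] [Finite G] (hE : Ev G) (V : Subgroup G)
    [hV : V.Normal] (hVb : V ≠ ⊥) (hmin : ∀ M : Subgroup G, M.Normal → M ≤ V → M = ⊥ ∨ M = V)
    (hL : L2 (G ⧸ V)) : False := by
  classical
  have hf := hL.facts
  have hsimple := hf.simple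
  -- normal subgroups not contained in `V`
  have hall : ∀ C : Subgroup G, C.Normal → ¬ C ≤ V → V ⊔ C = ⊤ := by
    intro C hC hCV
    have hCn : (C.map (QuotientGroup.mk' V)).Normal := hC.map _ (QuotientGroup.mk'_surjective V)
    rcases hCn.eq_bot_or_eq_top with h | h
    · exfalso
      apply hCV
      intro c hc
      rw [← QuotientGroup.eq_one_iff]
      have h1 : (c : G ⧸ V) ∈ C.map (QuotientGroup.mk' V) := ⟨c, hc, rfl⟩
      rwa [h, mem_bot] at h1
    · rw [eq_top_iff]
      intro g _
      have h1 : (g : G ⧸ V) ∈ C.map (QuotientGroup.mk' V) := by rw [h]; exact mem_top _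
      obtain ⟨c, hc, hcg⟩ := h1
      have h2 : c⁻¹ * g ∈ V := QuotientGroup.eq.1 hcg
      have h3 : g = c * (c⁻¹ * g) := by group
      rw [h3]
      exact (V ⊔ C).mul_mem ((le_sup_right : C ≤ V ⊔ C) hc) ((le_sup_left : V ≤ V ⊔ C) h2)
  by_cases hab : ∀ x ∈ V, ∀ y ∈ V, Commute x y
  · -- `V` abelian
    have hinv : ∀ t : G, orderOf (t : G ⧸ V) = 2 → ∀ d ∈ V, t * d * t⁻¹ = d⁻¹ := by
      intro t ht d hd
      have key : ∀ v ∈ V, (t * v) * (t * v) = 1 := by
        intro v hv
        have h1 : ((t * v : G) : G ⧸ V) = (t : G ⧸ V) := by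
          rw [QuotientGroup.mk_mul, (QuotientGroup.eq_one_iff v).2 hv, mul_one]
        have h2 : Van G (t * v) := by
          refine Van.of_surjective (QuotientGroup.mk' V) (QuotientGroup.mk'_surjective V) ?_
          show Van (G ⧸ V) ((t * v : G) : G ⧸ V)
          rw [h1]
          exact (hf.inv _ ht).van
        have h3 : 2 ∣ orderOf (t * v) := by
          have h4 := orderOf_map_dvd (QuotientGroup.mk' V) (t * v)
          change orderOf ((t * v : G) : G ⧸ V) ∣ _ at h4
          rwa [h1, ht] at h4
        rw [← pow_two, ← hE _ h2 h3, pow_orderOf_eq_one]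
      have h5 : t * t = 1 := by
        have := key 1 V.one_mem
        rwa [mul_one] at this
      have h6 := key d hd
      have h7 : t⁻¹ = t := inv_eq_of_mul_eq_one_left h5
      rw [h7]
      apply eq_inv_of_mul_eq_one_left
      rw [← h6]
      group
    obtain ⟨s', t', hs, ht, hst⟩ := hf.klein
    obtain ⟨s, rfl⟩ := QuotientGroup.mk_surjective s'
    obtain ⟨t, rfl⟩ := QuotientGroup.mk_surjective t'
    rw [← QuotientGroup.mk_mul] at hst
    have hsq : ∀ v ∈ V, v * v = 1 := by
      intro v hv
      have h1 := hinv _ hst v hv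
      have h2 : (s * t) * v * (s * t)⁻¹ = s * (t * v * t⁻¹) * s⁻¹ := by group
      rw [h2, hinv t ht v hv, hinv s hs v⁻¹ (V.inv_mem hv), inv_inv] at h1
      nth_rw 1 [h1]
      exact inv_mul_cancel v
    have hcen : ∀ t : G, orderOf (t : G ⧸ V) = 2 → ∀ d ∈ V, t * d = d * t := by
      intro t ht d hd
      have h1 := hinv t ht d hd
      rw [inv_eq_of_mul_eq_one_left (hsq d hd)] at h1
      exact mul_inv_eq_iff_eq_mul.1 h1
    have hC : V ⊔ centralizer (V : Set G) = ⊤ := by
      apply hall _ inferInstance
      intro h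
      have h1 : s ∈ centralizer (V : Set G) := by
        rw [mem_centralizer_iff]
        exact fun d hd => (hcen s hs d hd).symm
      have h2 := (QuotientGroup.eq_one_iff s).2 (h h1)
      rw [h2, orderOf_one] at hs
      omega
    have hCtop : centralizer (V : Set G) = ⊤ := by
      rw [← hC, eq_comm, sup_eq_right]
      intro v hv
      rw [mem_centralizer_iff]
      exact fun d hd => hab d hd v hv
    obtain ⟨v, hv, hv1⟩ := (Subgroup.bot_or_exists_ne_one V).resolve_left hVb
    obtain ⟨y', hyodd, hy1, hyv⟩ := hf.odd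
    obtain ⟨y, rfl⟩ := QuotientGroup.mk_surjective y'
    have hcomm : Commute y v := by
      have h1 : y ∈ centralizer (V : Set G) := by rw [hCtop]; exact mem_top y
      exact (mem_centralizer_iff.1 h1 v hv).symm
    have hfin : ∀ w : G, (w : G ⧸ V) = (y : G ⧸ V) → ¬ 2 ∣ orderOf w := by
      intro w hw h2
      have h1 : Van G w := by
        refine Van.of_surjective (QuotientGroup.mk' V) (QuotientGroup.mk'_surjective V) ?_
        show Van (G ⧸ V) (w : G ⧸ V)
        rw [hw]
        exact hyv.van
      have h3 := hE w h1 h2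
      have h4 := orderOf_map_dvd (QuotientGroup.mk' V) w
      change orderOf (w : G ⧸ V) ∣ _ at h4
      rw [hw, h3] at h4
      rcases (Nat.dvd_prime Nat.prime_two).1 h4 with h5 | h5
      · exact hy1 (orderOf_eq_one_iff.1 h5)
      · rw [h5] at hyodd
        exact absurd hyodd (by decide)
    have hv2 : orderOf v = 2 := orderOf_eq_prime (by rw [pow_two]; exact hsq v hv) hv1
    have hcop : (orderOf y).Coprime (orderOf v) := by
      rw [hv2, Nat.coprime_comm]
      exact (Nat.Prime.coprime_iff_not_dvd Nat.prime_two).2 (hfin y rfl)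
    apply hfin (y * v) (by rw [QuotientGroup.mk_mul, (QuotientGroup.eq_one_iff v).2 hv, mul_one])
    rw [hcomm.orderOf_mul_eq_mul_orderOf_of_coprime hcop, hv2]
    exact Dvd.intro_left _ rfl
  · -- `V` non-abelian
    have hLV := minimal_l2 hR hE V hmin hab
    have hfV := hLV.facts
    obtain ⟨q, c, P, Q, hPQ⟩ := hfV.ctx
    set C := centralizer (V : Set G) with hC
    have hCn : C.Normal := inferInstance
    have hVC : V ⊓ C = ⊥ := by
      rcases hmin (V ⊓ C) inferInstance inf_le_left with h | h
      · exact h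
      · exfalso
        apply hab
        intro x hx y hy
        have h1 : y ∈ C := by
          have : y ∈ V ⊓ C := by rw [h]; exact hy
          exact this.2
        exact (mem_centralizer_iff.1 h1 x hx)
    by_cases hCb : C = ⊥
    · have h1 := eq_top_of_ctx V hE c hPQ hCb
      have h2 : Subsingleton (G ⧸ V) := by
        have h3 : V.index = 1 := Subgroup.index_eq_one.2 h1
        exact (Nat.card_eq_one_iff_unique.1 h3).1
      have := hsimple.toNontrivial
      exact not_subsingleton (G ⧸ V) h2
    · have hCV : ¬ C ≤ V := by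
        intro h
        rw [inf_eq_right.2 h] at hVC
        exact hCb hVC
      have htop := hall C hCn hCV
      -- the isomorphism of `V` with `G ⧸ C`
      obtain ⟨s, -, hs, -, -⟩ := hfV.klein
      have hbij : Function.Bijective ((QuotientGroup.mk' C).comp V.subtype) := by
        constructor
        · rw [injective_iff_map_eq_one]
          intro a ha
          have h1 : (a : G) ∈ C := (QuotientGroup.eq_one_iff _).1 ha
          have h2 : (a : G) ∈ V ⊓ C := ⟨a.2, h1⟩
          rw [hVC, mem_bot] at h2
          exact Subtype.ext h2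
        · intro g
          obtain ⟨g, rfl⟩ := QuotientGroup.mk_surjective g
          have h1 : g ∈ V ⊔ C := by rw [htop]; exact mem_top g
          rw [Subgroup.mem_sup_of_normal_left] at h1
          obtain ⟨a, ha, b, hb, hab⟩ := h1
          refine ⟨⟨a, ha⟩, ?_⟩
          show (a : G ⧸ C) = (g : G ⧸ C)
          rw [← hab, QuotientGroup.mk_mul, (QuotientGroup.eq_one_iff b).2 hb, mul_one]
      let e : V ≃* G ⧸ C := MulEquiv.ofBijective _ hbij
      have hvan : Van (G ⧸ C) ((s : G) : G ⧸ C) := ((hfV.inv s hs).mulEquiv e).van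
      have hord : orderOf ((s : G) : G ⧸ C) = 2 := by
        have : orderOf (e s) = 2 := by rw [MulEquiv.orderOf_eq, hs]
        exact this
      obtain ⟨y', hyodd, hy1, hyv⟩ := hf.odd
      obtain ⟨g, rfl⟩ := QuotientGroup.mk_surjective y'
      have h1 : g ∈ V ⊔ C := by rw [htop]; exact mem_top g
      rw [Subgroup.mem_sup_of_normal_left] at h1
      obtain ⟨a, ha, y, hy, rfl⟩ := h1
      have h2 : ((a * y : G) : G ⧸ V) = (y : G ⧸ V) := by
        rw [QuotientGroup.mk_mul, (QuotientGroup.eq_one_iff a).2 ha, one_mul]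
      rw [h2] at hyodd hy1
      have h3 : (((s : G) * y : G) : G ⧸ C) = ((s : G) : G ⧸ C) := by
        rw [QuotientGroup.mk_mul, (QuotientGroup.eq_one_iff y).2 hy, mul_one]
      have h4 : (((s : G) * y : G) : G ⧸ V) = (y : G ⧸ V) := by
        rw [QuotientGroup.mk_mul, (QuotientGroup.eq_one_iff (s : G)).2 s.2, one_mul]
      have h5 : Van G ((s : G) * y) := by
        refine Van.of_surjective (QuotientGroup.mk' C) (QuotientGroup.mk'_surjective C) ?_
        show Van (G ⧸ C) (((s : G) * y : G) : G ⧸ C)
        rw [h3]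
        exact hvan
      have h6 : 2 ∣ orderOf ((s : G) * y) := by
        have h7 := orderOf_map_dvd (QuotientGroup.mk' C) ((s : G) * y)
        change orderOf (((s : G) * y : G) : G ⧸ C) ∣ _ at h7
        rwa [h3, hord] at h7
      have h7 := hE _ h5 h6
      have h8 := orderOf_map_dvd (QuotientGroup.mk' V) ((s : G) * y)
      change orderOf (((s : G) * y : G) : G ⧸ V) ∣ _ at h8
      rw [h4, h7] at h8
      rcases (Nat.dvd_prime Nat.prime_two).1 h8 with h9 | h9
      · exact hy1 (orderOf_eq_one_iff.1 h9)
      · rw [h9] at hyodd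
        exact absurd hyodd (by decide)

/-- Minimal normal subgroups inside a normal subgroup. -/
theorem exists_minimal {G : Type u} [Group G] [Finite G] (N : Subgroup G) (hN : N.Normal)
    (hNb : N ≠ ⊥) : ∃ V : Subgroup G, V.Normal ∧ V ≤ N ∧ V ≠ ⊥ ∧
      ∀ M : Subgroup G, M.Normal → M ≤ V → M = ⊥ ∨ M = V := by
  classical
  let S : Set (Subgroup G) := {M | M.Normal ∧ M ≤ N ∧ M ≠ ⊥}
  obtain ⟨V, hV, hmin⟩ := (Set.toFinite S).exists_minimal ⟨N, hN, le_rfl, hNb⟩
  refine ⟨V, hV.1, hV.2.1, hV.2.2, ?_⟩
  intro M hM hMV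
  by_cases hMb : M = ⊥
  · exact Or.inl hMb
  · exact Or.inr (le_antisymm hMV (hmin ⟨hM, hMV.trans hV.2.1, hMb⟩ hMV))

/-- Non-solvable groups with property `Ev` are groups `PSL(2, 2^f)`. -/
theorem l2_of_ev (hR : RowsEv.{u}) : ∀ (n : ℕ) (G : Type u) [Group G] [Finite G], Nat.card G ≤ n →
    Ev G → ¬ Group.IsSolvable G → L2 G := by
  intro n
  induction n with
  | zero =>
    intro G _ _ hn
    have := Nat.card_pos (α := G)
    omega
  | succ n ih =>
    intro G _ _ hn hE hns
    by_cases h : ∃ (N : Subgroup G) (_ : N.Normal), N ≠ ⊥ ∧ ¬ Group.IsSolvable (G ⧸ N)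
    · exfalso
      obtain ⟨N, hN, hNb, hNs⟩ := h
      obtain ⟨V, hV, hVN, hVb, hmin⟩ := exists_minimal N hN hNb
      have hVs : ¬ Group.IsSolvable (G ⧸ V) := by
        intro hs
        apply hNs
        have hsurj : Function.Surjective (QuotientGroup.map V N (MonoidHom.id G) hVN) := by
          intro g
          obtain ⟨g, rfl⟩ := QuotientGroup.mk_surjective g
          exact ⟨(g : G ⧸ V), rfl⟩
        exact solvable_of_surjective hsurj
      have hlt := card_quot_lt V hVb
      exact ext_false hR hE V hVb hmin (ih (G ⧸ V) (by omega) (hE.quot V) hVs)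
    · push Not at h
      have hnt : Nontrivial G := by
        by_contra hcon
        rw [not_nontrivial_iff_subsingleton] at hcon
        exact hns inferInstance
      have htb : (⊤ : Subgroup G) ≠ ⊥ := top_ne_bot
      obtain ⟨V, hV, -, hVb, hmin⟩ := exists_minimal (⊤ : Subgroup G) inferInstance htb
      have hVs := h V hV hVb
      have hext : Group.IsSolvable V → Group.IsSolvable G := by
        intro h1
        refine solvable_of_ker_le_range V.subtype (QuotientGroup.mk' V) ?_
        rw [QuotientGroup.ker_mk', Subgroup.range_subtype]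
      have hna : ¬ ∀ x ∈ V, ∀ y ∈ V, Commute x y := by
        intro hab
        apply hns
        apply hext
        exact isSolvable_of_comm fun a b => Subtype.ext (hab a a.2 b b.2)
      have hCb : centralizer (V : Set G) = ⊥ := by
        by_contra hCb
        apply hns
        apply hext
        have h1 := h (centralizer (V : Set G)) inferInstance hCb
        have hinj : Function.Injective ((QuotientGroup.mk' (centralizer (V : Set G))).comp V.subtype) := by
          rw [injective_iff_map_eq_one]
          intro a ha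
          have h2 : (a : G) ∈ centralizer (V : Set G) := (QuotientGroup.eq_one_iff _).1 ha
          rcases hmin (V ⊓ centralizer (V : Set G)) inferInstance inf_le_left with h3 | h3
          · have h4 : (a : G) ∈ V ⊓ centralizer (V : Set G) := ⟨a.2, h2⟩
            rw [h3, mem_bot] at h4
            exact Subtype.ext h4
          · exfalso
            apply hna
            intro x hx y hy
            have h4 : y ∈ V ⊓ centralizer (V : Set G) := by rw [h3]; exact hy
            exact mem_centralizer_iff.1 h4.2 x hx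
        exact solvable_of_solvable_injective hinj
      have hL := minimal_l2 hR hE V hmin hna
      obtain ⟨q, c, P, Q, hPQ⟩ := hL.facts.ctx
      have htop := eq_top_of_ctx V hE c hPQ hCb
      have e : G ≃* V := by
        rw [htop]
        exact Subgroup.topEquiv.symm
      exact hL.mulEquiv e

end Cfsg.Agent.H419.VanOrd
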