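import Cfsg.Agent.H419.VanOrd.LTwoOrders
import Cfsg.Agent.H419.VanOrd.NonSolv

/-!
# Groups with the vanishing orders of `PSL(2, 2^f)`, given the rows of the simple groups
-/

set_option autoImplicit false

namespace Cfsg.Agent.H419.VanOrd

open Cfsg Cfsg.Agent.H713

universe u v

/-- The set of orders of vanishing elements. -/
def VO (G : Type*) [Group G] : Set ℕ := {n : ℕ | ∃ g : G, Van G g ∧ orderOf g = n}

theorem le_of_order {T : Type u} [Group T] [Finite T] {F : Type v} [Field F] [Fintype F] [CharP F 2]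
    (h4 : 4 ≤ Fintype.card F) (e : T ≃* Matrix.ProjectiveSpecialLinearGroup (Fin 2) F) {m : ℕ}
    (hm : Even m) {g : T} (hg : orderOf g = m + 1) : m ≤ Fintype.card F := by
  obtain ⟨c, P, Q, hPQ⟩ := Cfsg.Agent.H723.L2Even.ctx e h4
  rcases order_cases c hPQ g with h | h
  · rw [hg] at h
    have := Nat.le_of_dvd (by omega) h
    omega
  · rw [hg] at h
    obtain ⟨k, hk⟩ := Cfsg.Agent.H723.L2Even.exists_pow (F := F)
    have h1 : Nat.Coprime (m + 1) (Fintype.card F) := by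
      rw [hk]
      exact Nat.Coprime.pow_right _ (Nat.coprime_two_right.2 hm.add_one)
    have h2 := Nat.le_of_dvd (by omega) (h1.dvd_of_dvd_mul_left h)
    omega

theorem main (hR : RowsEv.{u}) {F : Type v} [Field F] [Fintype F] (a : ℕ) (ha : 2 ≤ a)
    (hF : Fintype.card F = 2 ^ a) {G : Type u} [Group G] [Finite G]
    (h : VO G = VO (Matrix.ProjectiveSpecialLinearGroup (Fin 2) F)) :
    Nonempty (G ≃* Matrix.ProjectiveSpecialLinearGroup (Fin 2) F) := by
  have h4 : 4 ≤ Fintype.card F := by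
    rw [hF]
    calc 4 = 2 ^ 2 := by norm_num
      _ ≤ 2 ^ a := Nat.pow_le_pow_right (by norm_num) ha
  have hchar : CharP F 2 := by
    obtain ⟨p, hp⟩ := CharP.exists F
    obtain ⟨n, hpp, hn⟩ := FiniteField.card F p
    rw [hF] at hn
    have h1 : p ∣ 2 ^ a := by rw [hn]; exact dvd_pow_self p n.2.ne'
    have h2 := (Nat.prime_dvd_prime_iff_eq hpp Nat.prime_two).1 (hpp.dvd_of_dvd_pow h1)
    rw [← h2]
    exact hp
  let L := Matrix.ProjectiveSpecialLinearGroup (Fin 2) F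
  have hmem : ∀ n : ℕ, (∃ g : G, Van G g ∧ orderOf g = n) ↔ ∃ g : L, Van L g ∧ orderOf g = n :=
    fun n => by
      have h1 : n ∈ VO G ↔ n ∈ VO L := by rw [h]
      exact h1
  have hf : Facts L := facts_of h4 (MulEquiv.refl L)
  have hE : Ev G := by
    intro x hx hx2
    obtain ⟨g, -, hg⟩ := (hmem _).1 ⟨x, hx, rfl⟩
    rw [← hg]
    exact hf.even g (by rw [hg]; exact hx2)
  have h2 : ∃ x : G, Van G x ∧ orderOf x = 2 := by
    obtain ⟨s, -, hs, -, -⟩ := hf.klein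
    exact (hmem 2).2 ⟨s, (hf.inv s hs).van, hs⟩
  have hodd : ∃ x : G, Van G x ∧ Odd (orderOf x) := by
    obtain ⟨y, hy, -, hy2⟩ := hf.odd
    obtain ⟨x, hx, hxy⟩ := (hmem (orderOf y)).2 ⟨y, hy2.van, rfl⟩
    exact ⟨x, hx, by rw [hxy]; exact hy⟩
  have hP : NoMix G := by
    intro s hs hs2 hsx
    obtain ⟨r, hr, hr2, hrs, h1, h3⟩ := noMix (MulEquiv.refl L) h4 s hs hs2 ((hmem s).1 hsx)
    refine ⟨r, hr, hr2, hrs, (hmem r).2 h1, fun x hx hxr => ?_⟩
    obtain ⟨g, hg, hgr⟩ := (hmem _).1 ⟨x, hx, rfl⟩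
    exact h3 g hg (by rw [hgr, hxr])
  have hns := not_solvable hE h2 hodd hP
  obtain ⟨F', i1, i2, i3, h4', ⟨e⟩⟩ := l2_of_ev hR _ G le_rfl hE hns
  -- equality of the orders of the fields
  have hle1 : Fintype.card F' ≤ Fintype.card F := by
    obtain ⟨x, hx⟩ := Cfsg.Agent.H723.L2Even.exists_order e h4'
    have hx1 : x ≠ 1 := by
      rintro rfl
      rw [orderOf_one] at hx
      omega
    have hv := (Cfsg.Agent.H723.L2Even.vz_of_dvd e h4' hx1 (by rw [hx])).van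
    obtain ⟨g, -, hg⟩ := (hmem _).1 ⟨x, hv, hx⟩
    exact le_of_order h4 (MulEquiv.refl L) (Cfsg.Agent.H723.L2Even.card_even (F := F')) hg
  have hle2 : Fintype.card F ≤ Fintype.card F' := by
    obtain ⟨x, hx⟩ := Cfsg.Agent.H723.L2Even.exists_order (MulEquiv.refl L) h4
    have hx1 : x ≠ 1 := by
      rintro rfl
      rw [orderOf_one] at hx
      omega
    have hv := (Cfsg.Agent.H723.L2Even.vz_of_dvd (MulEquiv.refl L) h4 hx1 (by rw [hx])).van
    obtain ⟨g, -, hg⟩ := (hmem _).2 ⟨x, hv, hx⟩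
    exact le_of_order h4' e (Cfsg.Agent.H723.L2Even.card_even (F := F)) hg
  obtain ⟨e'⟩ := Cfsg.Agent.H363.PslCard.psl_of_card (n := Fin 2) (le_antisymm hle1 hle2)
  exact ⟨e.trans e'⟩

end Cfsg.Agent.H419.VanOrd
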