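import Cfsg.Agent.H419.VanOrd.SolvFour
import Cfsg.Agent.GH.C2GrowG

/-!
# Solvable groups with normal Sylow 2-subgroup (helper419)
-/

set_option autoImplicit false

namespace Cfsg.Agent.H419.VanOrd

open Cfsg Cfsg.Agent.Characters Cfsg.Agent.Characters.Core Cfsg.Agent.H713 Cfsg.Agent.H690.Van
open Subgroup
open scoped commutatorElement

universe u v

theorem exists_pow_eq_of_isPGroup {G : Type u} [Group G] {T : Subgroup G} (hT : IsPGroup 2 T) {u : G}
    (hu : u ∈ T) (hu1 : u ≠ 1) : 2 ∣ orderOf u := by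
  obtain ⟨k, hk⟩ := hT ⟨u, hu⟩
  have h1 : u ^ 2 ^ k = 1 := congrArg Subtype.val hk
  obtain ⟨j, -, hj⟩ := (Nat.dvd_prime_pow Nat.prime_two).1 (orderOf_dvd_of_pow_eq_one h1)
  rcases Nat.eq_zero_or_pos j with rfl | hj0
  · rw [pow_zero, orderOf_eq_one_iff] at hj
    exact absurd hj hu1
  · rw [hj]
    exact dvd_pow_self 2 hj0.ne'

theorem orderOf_two_pow {G : Type u} [Group G] {T : Subgroup G} (hT : IsPGroup 2 T) {u : G}
    (hu : u ∈ T) : ∃ j, orderOf u = 2 ^ j := by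
  obtain ⟨k, hk⟩ := hT ⟨u, hu⟩
  have h1 : u ^ 2 ^ k = 1 := congrArg Subtype.val hk
  obtain ⟨j, -, hj⟩ := (Nat.dvd_prime_pow Nat.prime_two).1 (orderOf_dvd_of_pow_eq_one h1)
  exact ⟨j, hj⟩

/-- If `c ≠ 1` has odd order and `c u` vanishes for all `u` in a 2-group `T` then `c` commutes with
no element of `T` besides `1`. -/
theorem fpf_of_van {G : Type u} [Group G] [Finite G] (hE : Ev G) {T : Subgroup G}
    (hT : IsPGroup 2 T) {c : G} (hc : Odd (orderOf c)) (hc1 : c ≠ 1) (hv : ∀ u ∈ T, Van G (c * u)) :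
    ∀ u ∈ T, u * c = c * u → u = 1 := by
  intro u hu hcu
  by_contra hu1
  have h2 := exists_pow_eq_of_isPGroup hT hu hu1
  obtain ⟨j, hj⟩ := orderOf_two_pow hT hu
  have hcomm : Commute c u := hcu.symm
  have hcop : (orderOf c).Coprime (orderOf u) := by
    rw [hj]
    exact Nat.Coprime.pow_right _ (Nat.coprime_two_right.2 hc)
  have h5 := hcomm.orderOf_mul_eq_mul_orderOf_of_coprime hcop
  have h6 := hE _ (hv u hu) (by rw [h5]; exact Dvd.dvd.mul_left h2 _)
  rw [h5] at h6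
  obtain ⟨m, hm⟩ := h2
  rw [hm] at h6
  have h7 : orderOf c * m = 1 := by
    have h8 : 2 * (orderOf c * m) = 2 := by
      calc 2 * (orderOf c * m) = orderOf c * (2 * m) := by ring
        _ = 2 := h6
    omega
  exact hc1 (orderOf_eq_one_iff.1 (Nat.eq_one_of_mul_eq_one_right h7))

section

variable {G : Type u} [Group G] [Finite G]

/-- Elements with a power in `b T`, where `b ≠ 1` belongs to an abelian normal subgroup of a
complement of `T`, vanish. -/
theorem van_of_pow (T K B : Subgroup G) [hTn : T.Normal] (hT : IsPGroup 2 T)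
    (hTK : ∀ g : G, ∃ t ∈ T, ∃ k ∈ K, g = t * k) (hKo : ¬ 2 ∣ Nat.card K)
    (hKT : K ⊓ centralizer (T : Set G) = ⊥) (hBK : B ≤ K) (hBn : ∀ k ∈ K, ∀ b ∈ B, k * b * k⁻¹ ∈ B)
    (hBc : ∀ a ∈ B, ∀ b ∈ B, a * b = b * a) {g b u : G} {m : ℕ} (hb : b ∈ B) (hb1 : b ≠ 1)
    (hu : u ∈ T) (hg : g ^ m = b * u) : Van G g := by
  classical
  have hF2 : Fact (Nat.Prime 2) := ⟨Nat.prime_two⟩
  let F : Subgroup G := (frattini T).map T.subtype
  have hFn : F.Normal := ConjAct.normal_of_characteristic_of_normal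
  let X : Subgroup (G ⧸ F) := T.map (QuotientGroup.mk' F)
  have hXn : X.Normal := hTn.map _ (QuotientGroup.mk'_surjective F)
  have hXc : ∀ a ∈ X, ∀ b ∈ X, a * b = b * a := by
    rintro _ ⟨a, ha, rfl⟩ _ ⟨b, hb, rfl⟩
    rw [← map_mul, ← map_mul]
    apply QuotientGroup.eq.2
    have h1 : (⁅(⟨b, hb⟩ : T)⁻¹, (⟨a, ha⟩ : T)⁻¹⁆ : T) ∈ frattini T :=
      Cfsg.Agent.Lib.FrattiniBasic.commutator_le_frattini hT
        (commutator_mem_commutator (mem_top _) (mem_top _))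
    refine ⟨_, h1, ?_⟩
    rw [commutatorElement_def]
    simp only [Subgroup.coe_subtype, coe_mul, coe_inv]
    group
  let Ψ : G →* MulAut X := (MulAut.conjNormal : G ⧸ F →* MulAut X).comp (QuotientGroup.mk' F)
  have hΨT : ∀ t ∈ T, Ψ t = 1 := by
    intro t ht
    apply MulEquiv.ext
    intro y
    apply Subtype.ext
    show (t : G ⧸ F) * y * (t : G ⧸ F)⁻¹ = y
    rw [hXc (t : G ⧸ F) ⟨t, ht, rfl⟩ y y.2, mul_inv_cancel_right]
  refine Van.of_surjective (QuotientGroup.mk' F) (QuotientGroup.mk'_surjective F) ?_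
  refine van_of_regular X hXc (B.map Ψ) ?_ ?_ ?_ (m := m) ?_ ?_
  · rintro _ ⟨a, ha, rfl⟩ _ ⟨b, hb, rfl⟩
    rw [← map_mul, ← map_mul, hBc a ha b hb]
  · rintro q _ ⟨a, ha, rfl⟩
    obtain ⟨g, rfl⟩ := QuotientGroup.mk_surjective q
    obtain ⟨t, ht, k, hk, rfl⟩ := hTK g
    refine ⟨k * a * k⁻¹, hBn k hk a ha, ?_⟩
    have h1 : (MulAut.conjNormal ((t * k : G) : G ⧸ F) : MulAut X) = Ψ (t * k) := rfl
    have h5 : Ψ (t * k) = Ψ k := by rw [map_mul, hΨT t ht, one_mul]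
    rw [h1, h5, map_mul, map_mul, map_inv]
  · have h1 : Nat.card (B.map Ψ) ∣ Nat.card B := Subgroup.card_map_dvd _ _
    have h2 : Nat.card B ∣ Nat.card K := Subgroup.card_dvd_of_le hBK
    have h3 : Nat.card X ∣ Nat.card T := Subgroup.card_map_dvd _ _
    obtain ⟨n, hn⟩ := IsPGroup.iff_card.1 hT
    refine Nat.Coprime.coprime_dvd_left (h1.trans h2) (Nat.Coprime.coprime_dvd_right h3 ?_)
    rw [hn]
    exact Nat.Coprime.pow_right _ (Nat.coprime_comm.1 ((Nat.Prime.coprime_iff_not_dvd Nat.prime_two).2 hKo))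
  · have h1 : (MulAut.conjNormal ((QuotientGroup.mk' F) g) : MulAut X) ^ m = Ψ (b * u) := by
      rw [← hg, map_pow]
      rfl
    rw [h1, map_mul, hΨT u hu, mul_one]
    exact ⟨b, hb, rfl⟩
  · have h1 : (MulAut.conjNormal ((QuotientGroup.mk' F) g) : MulAut X) ^ m = Ψ (b * u) := by
      rw [← hg, map_pow]
      rfl
    rw [h1, map_mul, hΨT u hu, mul_one]
    intro h2
    have h3 : zpowers b ≤ centralizer (T : Set G) := by
      refine Cfsg.Agent.S0029.result (zpowers b) T ?_ ?_ ?_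
      · rw [normalizer_eq_top]
        exact le_top
      · have h4 : Nat.card (zpowers b) ∣ Nat.card K := by
          rw [Nat.card_zpowers]
          exact Subgroup.orderOf_dvd_natCard K (hBK hb)
        have h5 : Nat.card (frattini T) ∣ Nat.card T := Subgroup.card_subgroup_dvd_card _
        obtain ⟨n, hn⟩ := IsPGroup.iff_card.1 hT
        refine Nat.Coprime.coprime_dvd_left h4 (Nat.Coprime.coprime_dvd_right h5 ?_)
        rw [hn]
        exact Nat.Coprime.pow_right _ (Nat.coprime_comm.1 ((Nat.Prime.coprime_iff_not_dvd Nat.prime_two).2 hKo))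
      · intro a ha k hk
        have h4 : Ψ a = 1 := by
          obtain ⟨n, rfl⟩ := mem_zpowers_iff.1 ha
          rw [map_zpow, h2, one_zpow]
        have h5 : Ψ a ⟨(k : G ⧸ F), ⟨k, hk, rfl⟩⟩ = ⟨(k : G ⧸ F), ⟨k, hk, rfl⟩⟩ := by
          rw [h4]
          rfl
        have h6 : (a : G ⧸ F) * (k : G ⧸ F) * (a : G ⧸ F)⁻¹ = (k : G ⧸ F) := congrArg Subtype.val h5
        rw [← QuotientGroup.mk_mul, ← QuotientGroup.mk_inv, ← QuotientGroup.mk_mul, eq_comm,
          QuotientGroup.eq] at h6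
        have h7 := hFn.conj_mem _ h6 k
        convert h7 using 1
        group
    have h4 : b ∈ K ⊓ centralizer (T : Set G) := ⟨hBK hb, h3 (mem_zpowers b)⟩
    rw [hKT, mem_bot] at h4
    exact hb1 h4

end

end Cfsg.Agent.H419.VanOrd
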