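import Cfsg.Agent.H419.VanOrd.SolvThree
import Cfsg.Agent.CharactersDeep.CliffordSum
import Cfsg.Agent.Lib.FrattiniBasic
import Cfsg.Agent.Blocks.Fong
import Cfsg.Agent.S0029
import Cfsg.Agent.S0041

/-!
# Groups with normal Sylow 2-subgroup (helper419)
-/

set_option autoImplicit false

namespace Cfsg.Agent.H419.VanOrd

open Cfsg Cfsg.Agent.Characters Cfsg.Agent.Characters.Core Cfsg.Agent.H713 Cfsg.Agent.H690.Van
open Cfsg.Agent.CharactersDeep

universe u v

/-- Whether an irreducible character vanishes at an element of a normal subgroup depends only on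
the constituents of its restriction. -/
theorem van_transfer {G : Type u} [Group G] [Fintype G] (T : Subgroup G) [T.Normal] [Fintype T]
    {χ χ' : G → ℂ} (hχ : IsIrrCharacter G χ) (hχ' : IsIrrCharacter G χ') {φ : T → ℂ}
    (hφ : IsIrrCharacter T φ) (h1 : classInner (fun n : T => χ n) φ ≠ 0)
    (h2 : classInner (fun n : T => χ' n) φ ≠ 0) {t : T} (h0 : χ t = 0) : χ' t = 0 := by
  classical
  have e1 := congrFun (CliffordSum.restrict_eq_smul_sum T hχ hφ h1) t
  have e2 := congrFun (CliffordSum.restrict_eq_smul_sum T hχ' hφ h2) t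
  simp only [Pi.smul_apply, smul_eq_mul] at e1 e2
  rw [e1] at h0
  have := (mul_eq_zero.1 h0).resolve_left h1
  rw [e2, this, mul_zero]

/-- A product of a vanishing element of a normal subgroup `T` with an element of a normal subgroup
`X` disjoint from `T` is vanishing. -/
theorem van_mul_of_disjoint {G : Type u} [Group G] [Finite G] (T X : Subgroup G) [T.Normal]
    [X.Normal] (hTX : T ⊓ X = ⊥) {t : G} (ht : t ∈ T) (hv : Van G t) {x : G} (hx : x ∈ X) :
    Van G (t * x) := by
  classical
  have := Fintype.ofFinite G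
  have := Fintype.ofFinite T
  obtain ⟨χ, hχ⟩ := hv
  obtain ⟨φ, hφ⟩ := Cfsg.Agent.Blocks.Fong.exists_constituent (N := T) χ
  let f : T →* G ⧸ X := (QuotientGroup.mk' X).comp T.subtype
  have hf : Function.Injective f := by
    rw [injective_iff_map_eq_one]
    intro a ha
    have h1 : (a : G) ∈ X := (QuotientGroup.eq_one_iff _).1 ha
    have h2 : (a : G) ∈ T ⊓ X := ⟨a.2, h1⟩
    rw [hTX, Subgroup.mem_bot] at h2
    exact Subtype.ext h2
  let e : T ≃* f.range := MonoidHom.ofInjective hf
  have := Fintype.ofFinite f.range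
  have := Fintype.ofFinite (G ⧸ X)
  have hψ : IsIrrCharacter f.range ((φ : T → ℂ) ∘ e.symm) :=
    isIrr_comp (e.symm : f.range →* T) e.symm.surjective φ.2
  obtain ⟨η, hη, hne⟩ := Cfsg.Agent.CharDeep.PowerDegrees.exists_irr_over f.range hψ
  have hη' : IsIrrCharacter G (η ∘ (QuotientGroup.mk' X)) :=
    isIrr_comp (QuotientGroup.mk' X) (QuotientGroup.mk'_surjective X) hη
  have h3 : classInner (fun n : T => (η ∘ (QuotientGroup.mk' X)) n) (φ : T → ℂ) ≠ 0 := by
    rw [← Clifford.classInner_comp_mulEquiv e] at hne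
    have h6 : ((φ : T → ℂ) ∘ e.symm) ∘ e = (φ : T → ℂ) := by
      funext n
      simp
    rw [h6] at hne
    exact hne
  have h4 := van_transfer T χ.2 hη' φ.2 hφ h3 (t := ⟨t, ht⟩) hχ
  refine ⟨⟨_, hη'⟩, ?_⟩
  show η ((QuotientGroup.mk' X) (t * x)) = 0
  have h5 : (QuotientGroup.mk' X) (t * x) = (QuotientGroup.mk' X) t := by
    rw [map_mul]
    have : (QuotientGroup.mk' X) x = 1 := (QuotientGroup.eq_one_iff x).2 hx
    rw [this, mul_one]
  rw [h5]
  exact h4

/-- With property `Ev` and a vanishing involution in a normal 2-subgroup there is no nontrivial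
normal subgroup of odd order. -/
theorem odd_normal_bot {G : Type u} [Group G] [Finite G] (hE : Ev G) (T : Subgroup G) [T.Normal]
    (hT : IsPGroup 2 T) (X : Subgroup G) [X.Normal] (hXo : ¬ 2 ∣ Nat.card X) {t : G} (ht : t ∈ T)
    (hv : Van G t) (ht2 : orderOf t = 2) : X = ⊥ := by
  by_contra hX
  obtain ⟨x, hx, hx1⟩ := (Subgroup.bot_or_exists_ne_one X).resolve_left hX
  have hTX : T ⊓ X = ⊥ := by
    rw [Subgroup.eq_bot_iff_forall]
    rintro a ⟨ha, hb⟩
    obtain ⟨k, hk⟩ := hT ⟨a, ha⟩
    have h1 : a ^ 2 ^ k = 1 := congrArg Subtype.val hk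
    obtain ⟨j, -, hj⟩ := (Nat.dvd_prime_pow Nat.prime_two).1 (orderOf_dvd_of_pow_eq_one h1)
    have h2 : orderOf a ∣ Nat.card X := Subgroup.orderOf_dvd_natCard X hb
    rcases Nat.eq_zero_or_pos j with rfl | hj0
    · rw [pow_zero, orderOf_eq_one_iff] at hj
      exact hj
    · exfalso
      apply hXo
      refine Dvd.dvd.trans ?_ h2
      rw [hj]
      exact dvd_pow_self 2 hj0.ne'
  have h3 := van_mul_of_disjoint T X hTX ht hv hx
  have hcomm : Commute t x :=
    Subgroup.commute_of_normal_of_disjoint T X inferInstance inferInstance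
      (disjoint_iff.2 hTX) t x ht hx
  have h4 : orderOf x ∣ Nat.card X := Subgroup.orderOf_dvd_natCard X hx
  have hcop : (orderOf t).Coprime (orderOf x) := by
    rw [ht2]
    exact (Nat.Prime.coprime_iff_not_dvd Nat.prime_two).2 (fun h => hXo (h.trans h4))
  have h5 := hcomm.orderOf_mul_eq_mul_orderOf_of_coprime hcop
  have h6 := hE _ h3 (by rw [h5, ht2]; exact Dvd.intro _ rfl)
  rw [h5, ht2] at h6
  have h7 : orderOf x = 1 := by omega
  exact hx1 (orderOf_eq_one_iff.1 h7)

end Cfsg.Agent.H419.VanOrd
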