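import Cfsg.Agent.H419.VanOrd.Reg

/-!
# The case where the Sylow 2-subgroup is not normal (helper419)
-/

set_option autoImplicit false

namespace Cfsg.Agent.H419.VanOrd

open Cfsg Cfsg.Agent.Characters Cfsg.Agent.H713 Cfsg.Agent.H690.Van

universe u v

section

variable {G : Type u} [Group G] [Finite G] {Q : Type u} [Group Q] [Finite Q] (f : G →* Q)
  (hf : Function.Surjective f) (X : Subgroup Q) [X.Normal]

include hf

/-- If a group with property `Ev` induces a nontrivial normal Sylow 2-subgroup of automorphisms on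
an abelian normal section of odd order then it has an abelian subgroup of index two, all elements
outside of which are involutions. -/
theorem exists_index_two (hE : Ev G) (hXc : ∀ a ∈ X, ∀ b ∈ X, a * b = b * a)
    (hXo : ¬ 2 ∣ Nat.card X) (Φ : G →* MulAut X) (hΦ : ∀ g : G, Φ g = MulAut.conjNormal (f g))
    (P : Sylow 2 Φ.range) (hPn : (P : Subgroup Φ.range).Normal)
    (hP : (P : Subgroup Φ.range) ≠ ⊥) :
    ∃ D : Subgroup G, D.index = 2 ∧ (∀ a ∈ D, ∀ b ∈ D, a * b = b * a) ∧ ∀ g ∉ D, orderOf g = 2 := by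
  classical
  have h2 : Fact (Nat.Prime 2) := ⟨Nat.prime_two⟩
  let A : Subgroup (MulAut X) := Φ.range
  -- the centre of `P`
  let Z : Subgroup A := (Subgroup.center (P : Subgroup A)).map (P : Subgroup A).subtype
  have hZP : Z ≤ P := by
    rintro _ ⟨z, -, rfl⟩
    exact z.2
  have hZn : Z.Normal := ConjAct.normal_of_characteristic_of_normal
  have hPp : IsPGroup 2 (P : Subgroup A) := P.isPGroup'
  have hPnt : Nontrivial (P : Subgroup A) := (Subgroup.nontrivial_iff_ne_bot _).2 hP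
  have hcent : ∀ a : A, a ∈ Z ↔ a ∈ P ∧ ∀ b ∈ P, a * b = b * a := by
    intro a
    constructor
    · rintro ⟨z, hz, rfl⟩
      refine ⟨z.2, fun b hb => ?_⟩
      exact (congrArg Subtype.val (Subgroup.mem_center_iff.1 hz ⟨b, hb⟩)).symm
    · rintro ⟨ha, h⟩
      exact ⟨⟨a, ha⟩, Subgroup.mem_center_iff.2 fun b => Subtype.ext (h b b.2).symm, rfl⟩
  have hZ1 : ∃ ζ ∈ Z, ζ ≠ 1 := by
    have := hPp.center_nontrivial
    obtain ⟨z, hz⟩ := exists_ne (1 : Subgroup.center (P : Subgroup A))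
    refine ⟨((z : P) : A), ⟨z, z.2, rfl⟩, fun h => hz ?_⟩
    exact Subtype.ext (Subtype.ext h)
  -- images of `Z` in the automorphism group
  have hZp : IsPGroup 2 Z := hPp.to_le hZP
  let Z' : Subgroup (MulAut X) := Z.map A.subtype
  have hZ'c : ∀ a ∈ Z', ∀ b ∈ Z', a * b = b * a := by
    rintro _ ⟨a, ha, rfl⟩ _ ⟨b, hb, rfl⟩
    rw [← map_mul, ← map_mul, ((hcent a).1 ha).2 b (hZP hb)]
  have hΦs : ∀ q : Q, ∃ g : G, (MulAut.conjNormal q : MulAut X) = Φ g := by
    intro q
    obtain ⟨g, rfl⟩ := hf q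
    exact ⟨g, (hΦ g).symm⟩
  have hZ'n : ∀ g : Q, ∀ a ∈ Z', (MulAut.conjNormal g : MulAut X) * a * (MulAut.conjNormal g)⁻¹ ∈ Z' := by
    rintro q _ ⟨a, ha, rfl⟩
    obtain ⟨g, hg⟩ := hΦs q
    rw [hg]
    refine ⟨⟨Φ g, g, rfl⟩ * a * ⟨Φ g, g, rfl⟩⁻¹, hZn.conj_mem a ha _, rfl⟩
  have hcop : (Nat.card Z').Coprime (Nat.card X) := by
    have hc : Nat.card Z' = Nat.card Z := Subgroup.card_map_of_injective A.subtype_injective
    rw [hc]
    obtain ⟨n, hn⟩ := IsPGroup.iff_card.1 hZp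
    rw [hn]
    exact Nat.Coprime.pow_left _ ((Nat.Prime.coprime_iff_not_dvd Nat.prime_two).2 hXo)
  -- the key property
  have key : ∀ (g : G) (m : ℕ) (ζ : A), ζ ∈ Z → ζ ≠ 1 → Φ g ^ m = ζ → orderOf g = 2 := by
    intro g m ζ hζ hζ1 hg
    refine hE g ?_ ?_
    · refine Van.of_surjective f hf ?_
      refine van_of_regular X hXc Z' hZ'c hZ'n hcop (m := m) ?_ ?_
      · exact ⟨ζ, hζ, by rw [Subgroup.coe_subtype, ← hg, hΦ]⟩
      · intro h
        apply hζ1
        apply Subtype.ext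
        rw [← hg, hΦ]
        exact h
    · have h3 : (ζ : MulAut X) ≠ 1 := fun h => hζ1 (Subtype.ext h)
      have h4 : orderOf (ζ : MulAut X) ∣ orderOf g := by
        rw [← hg]
        exact (orderOf_pow_dvd m).trans (orderOf_map_dvd Φ g)
      refine Dvd.dvd.trans ?_ h4
      rw [Subgroup.orderOf_coe]
      obtain ⟨k, hk⟩ := hZp ⟨ζ, hζ⟩
      have h5 : ζ ^ 2 ^ k = 1 := congrArg Subtype.val hk
      obtain ⟨j, hj, hj2⟩ := (Nat.dvd_prime_pow Nat.prime_two).1 (orderOf_dvd_of_pow_eq_one h5)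
      rw [hj2]
      refine dvd_pow_self 2 ?_
      rintro rfl
      rw [pow_zero, orderOf_eq_one_iff] at hj2
      exact hζ1 hj2
  obtain ⟨ζ, hζ, hζ1⟩ := hZ1
  -- the kernel
  have hXD : ∀ x : G, f x ∈ X → Φ x = 1 := by
    intro x hx
    apply MulEquiv.ext
    intro y
    apply Subtype.ext
    rw [hΦ]
    show f x * y * (f x)⁻¹ = y
    rw [hXc (f x) hx y y.2, mul_inv_cancel_right]
  have hinv : ∀ (t : G) (ξ : A), ξ ∈ Z → ξ ≠ 1 → Φ t = ξ → ∀ d : G, Φ d = 1 → t * d * t⁻¹ = d⁻¹ := by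
    intro t ξ hξ hξ1 ht d hd
    have h3 := key t 1 ξ hξ hξ1 (by rw [pow_one, ht])
    have h4 := key (t * d) 1 ξ hξ hξ1 (by rw [pow_one, map_mul, ht, hd, mul_one])
    have h5 : t * t = 1 := by rw [← pow_two, ← h3, pow_orderOf_eq_one]
    have h6 : (t * d) * (t * d) = 1 := by rw [← pow_two, ← h4, pow_orderOf_eq_one]
    have h7 : t⁻¹ = t := inv_eq_of_mul_eq_one_left h5
    rw [h7]
    apply eq_inv_of_mul_eq_one_left
    rw [← h6]
    group
  -- an element of `X`
  have hXne : ∃ x : G, f x ∈ X ∧ x * x ≠ 1 := by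
    by_contra hcon
    push Not at hcon
    apply hζ1
    apply Subtype.ext
    apply MulEquiv.ext
    intro y
    obtain ⟨x, hx⟩ := hf (y : Q)
    have h3 : (y : Q) = 1 := by
      have h4 : y * y = 1 := by
        apply Subtype.ext
        show (y : Q) * y = 1
        rw [← hx, ← map_mul, hcon x (hx ▸ y.2), map_one]
      have h5 : orderOf y ∣ 2 := orderOf_dvd_of_pow_eq_one (by rw [pow_two, h4])
      have h6 : orderOf y ∣ Nat.card X := orderOf_dvd_natCard y
      have h7 : orderOf y ≠ 2 := fun h => hXo (h ▸ h6)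
      have h8 : orderOf y = 1 := ((Nat.dvd_prime Nat.prime_two).1 h5).resolve_right h7
      rw [orderOf_eq_one_iff] at h8
      rw [h8]
      rfl
    have h3' : y = 1 := Subtype.ext h3
    rw [h3']
    simp
  -- `Z` has order two
  have hZ2 : ∀ ξ ∈ Z, ξ = 1 ∨ ξ = ζ := by
    intro ξ hξ
    by_contra hcon
    push Not at hcon
    obtain ⟨hξ1, hξζ⟩ := hcon
    obtain ⟨t, ht⟩ := ζ.2
    obtain ⟨s, hs⟩ := ξ.2
    obtain ⟨x, hx, hx2⟩ := hXne
    have h3 := hinv t ζ hζ hζ1 ht
    have h4 := hinv s ξ hξ hξ1 hs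
    have hξ2 : ξ * ξ = 1 := by
      apply Subtype.ext
      have h5 := key s 1 ξ hξ hξ1 (by rw [pow_one, hs])
      show (ξ : MulAut X) * ξ = 1
      rw [← hs, ← map_mul, ← pow_two, ← h5, pow_orderOf_eq_one, map_one]
    have h5 : ζ * ξ ≠ 1 := by
      intro h
      apply hξζ
      have h6 := eq_inv_of_mul_eq_one_left h
      rw [h6]
      exact (inv_eq_of_mul_eq_one_left hξ2).symm
    have h6 := hinv (t * s) (ζ * ξ) (Z.mul_mem hζ hξ) h5 (by rw [map_mul, ht, hs]; rfl)
    have hxD := hXD x hx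
    have h7 : (t * s) * x * (t * s)⁻¹ = x := by
      have h8 : (t * s) * x * (t * s)⁻¹ = t * (s * x * s⁻¹) * t⁻¹ := by group
      rw [h8, h4 x hxD, h3 x⁻¹ (by rw [map_inv, hxD, inv_one]), inv_inv]
    rw [h6 x hxD] at h7
    apply hx2
    nth_rw 1 [← h7]
    exact inv_mul_cancel x
  have hζ2 : ζ * ζ = 1 := by
    rcases hZ2 (ζ * ζ) (Z.mul_mem hζ hζ) with h | h
    · exact h
    · exact absurd (mul_eq_left.1 h) hζ1
  have hζc : ∀ a : A, a * ζ = ζ * a := by
    intro a
    rcases hZ2 _ (hZn.conj_mem ζ hζ a) with h | h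
    · exfalso
      apply hζ1
      rw [mul_inv_eq_one] at h
      exact mul_eq_left.1 h
    · exact mul_inv_eq_iff_eq_mul.1 h
  -- `A` is a 2-group
  have hAp : IsPGroup 2 A := by
    rw [IsPGroup.iff_card]
    refine ⟨_, Nat.eq_prime_pow_of_unique_prime_dvd Nat.card_pos.ne' ?_⟩
    intro p hp hpA
    by_contra hp2
    have hpf : Fact p.Prime := ⟨hp⟩
    obtain ⟨a, ha⟩ := exists_prime_orderOf_dvd_card' p hpA
    have hodd : Odd p := hp.odd_of_ne_two hp2
    obtain ⟨k, hk⟩ := hodd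
    obtain ⟨g, hg⟩ := (a * ζ).2
    have h3 : (a * ζ) ^ p = ζ := by
      have hc : Commute a ζ := hζc a
      rw [hc.mul_pow, ← ha, pow_orderOf_eq_one, one_mul, ha, hk, pow_succ, pow_mul, pow_two, hζ2,
        one_pow, one_mul]
    have h4 := key g p ζ hζ hζ1 (by rw [hg]; exact congrArg Subtype.val h3)
    have h5 : (a * ζ) * (a * ζ) = 1 := by
      apply Subtype.ext
      show ((a * ζ : A) : MulAut X) * ((a * ζ : A) : MulAut X) = 1
      rw [← hg, ← map_mul, ← pow_two, ← h4, pow_orderOf_eq_one, map_one]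
    have h6 : a ^ 2 = 1 := by
      rw [pow_two, ← h5]
      have h7 : (a * ζ) * (a * ζ) = a * (ζ * a) * ζ := by group
      rw [h7, ← hζc a]
      have h8 : a * (a * ζ) * ζ = a * a * (ζ * ζ) := by group
      rw [h8, hζ2, mul_one]
    have h7 := orderOf_dvd_of_pow_eq_one h6
    rw [ha, Nat.prime_dvd_prime_iff_eq hp Nat.prime_two] at h7
    exact hp2 h7
  have hPtop : (P : Subgroup A) = ⊤ := by
    have h3 : IsPGroup 2 (⊤ : Subgroup A) := hAp.to_subgroup ⊤
    exact (P.is_maximal' h3 le_top).symm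
  have hZc : ∀ a : A, a ∈ Subgroup.center A ↔ a ∈ Z := by
    intro a
    rw [hcent, Subgroup.mem_center_iff]
    constructor
    · intro h
      refine ⟨by have := Subgroup.mem_top a; rw [← hPtop] at this; exact this, fun b _ => (h b).symm⟩
    · rintro ⟨-, h⟩ b
      refine (h b ?_).symm
      have := Subgroup.mem_top b
      rw [← hPtop] at this
      exact this
  -- all elements of `A` are central
  have hnil : Group.IsNilpotent A := hAp.isNilpotent
  have hsq : ∀ a : A, a * a = 1 := by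
    intro a
    by_cases hac : a ∈ Subgroup.center A
    · rcases hZ2 a ((hZc a).1 hac) with h | h
      · rw [h, mul_one]
      · rw [h, hζ2]
    · have h3 : Van A a := Vn.of_nilpotent hac
      obtain ⟨g, hg⟩ := a.2
      have h4 : Φ.rangeRestrict g = a := Subtype.ext hg
      have h5 : Van G g := Van.of_surjective Φ.rangeRestrict Φ.rangeRestrict_surjective (by rw [h4]; exact h3)
      have ha1 : a ≠ 1 := by
        rintro rfl
        exact hac (Subgroup.one_mem _)
      have h6 : 2 ∣ orderOf g := by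
        have h7 : orderOf a ∣ orderOf g := by rw [← h4]; exact orderOf_map_dvd _ g
        refine Dvd.dvd.trans ?_ h7
        obtain ⟨k, hk⟩ := hAp a
        obtain ⟨j, hj, hj2⟩ := (Nat.dvd_prime_pow Nat.prime_two).1 (orderOf_dvd_of_pow_eq_one hk)
        rw [hj2]
        refine dvd_pow_self 2 ?_
        rintro rfl
        rw [pow_zero, orderOf_eq_one_iff] at hj2
        exact ha1 hj2
      have h8 := hE g h5 h6
      rw [← h4, ← map_mul, ← pow_two, ← h8, pow_orderOf_eq_one, map_one]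
  have hAc : ∀ a b : A, a * b = b * a := by
    intro a b
    have h3 := hsq (a * b)
    have h4 : a⁻¹ = a := inv_eq_of_mul_eq_one_left (hsq a)
    have h5 : b⁻¹ = b := inv_eq_of_mul_eq_one_left (hsq b)
    have h6 : (a * b)⁻¹ = a * b := inv_eq_of_mul_eq_one_left h3
    rw [← h6, mul_inv_rev, h4, h5]
  have hAζ : ∀ a : A, a = 1 ∨ a = ζ := by
    intro a
    apply hZ2
    rw [← hZc, Subgroup.mem_center_iff]
    exact fun b => hAc b a
  -- conclusion
  refine ⟨Φ.ker, ?_, ?_, ?_⟩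
  · rw [Subgroup.index_ker, Nat.card_eq_two_iff]
    refine ⟨1, ζ, hζ1.symm, ?_⟩
    ext a
    simp only [Set.mem_insert_iff, Set.mem_singleton_iff, Set.mem_univ, iff_true]
    exact hAζ a
  · intro a ha b hb
    obtain ⟨t, ht⟩ := ζ.2
    have h3 := hinv t ζ hζ hζ1 ht
    have ha' : Φ a = 1 := ha
    have hb' : Φ b = 1 := hb
    have h4 := h3 (b * a) (by rw [map_mul, ha', hb', one_mul])
    have h5 : t * (b * a) * t⁻¹ = (t * b * t⁻¹) * (t * a * t⁻¹) := by group
    rw [h5, h3 a ha', h3 b hb'] at h4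
    have h6 : (b * a)⁻¹ = (a * b)⁻¹ := by rw [← h4, mul_inv_rev]
    exact (inv_injective h6).symm
  · intro g hg
    have h3 : Φ.rangeRestrict g ≠ 1 := fun h => hg (congrArg Subtype.val h)
    have h4 := (hAζ (Φ.rangeRestrict g)).resolve_left h3
    exact key g 1 ζ hζ hζ1 (by rw [pow_one]; exact congrArg Subtype.val h4)

end

end Cfsg.Agent.H419.VanOrd
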