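import Cfsg.Agent.H419.VanOrd.SolvTwo
import Cfsg.Agent.H714.VanConv
import Cfsg.Agent.Characters.DegreeBounds
import Cfsg.Agent.Blocks.CliffordCentral

/-!
# Groups with an abelian subgroup of index two (helper419)
-/

set_option autoImplicit false

namespace Cfsg.Agent.H419.VanOrd

open Cfsg Cfsg.Agent.Characters Cfsg.Agent.H713 Cfsg.Agent.H690.Van

universe u v

/-- Vanishing elements of a group with an abelian subgroup of index two have even order, if all
elements outside of the subgroup are involutions. -/
theorem even_of_index_two {G : Type u} [Group G] [Finite G] (D : Subgroup G) (hD : D.index = 2)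
    (hc : ∀ a ∈ D, ∀ b ∈ D, a * b = b * a) {x : G} (hx : Van G x) : ¬ Odd (orderOf x) := by
  intro hodd
  obtain ⟨⟨χ, n, ρ, hρ, rfl⟩, h0⟩ := hx
  have h1 := Cfsg.Agent.Characters.DegreeBounds.finrank_le_index_of_comm ρ D hc
  rw [hD, Module.finrank_fin_fun] at h1
  have hn : 0 < n := Cfsg.Agent.Blocks.CliffordCentral.pos_of_irreducible ρ
  exact Cfsg.Agent.H714.VanConv.ne_zero_of_odd hn h1 ρ hodd h0

/-- A finite solvable group with property `Ev` and a vanishing element of odd order has a normal
Sylow 2-subgroup. -/
theorem closed_of_odd {G : Type u} [Group G] [Finite G] [Group.IsSolvable G] (hE : Ev G) {x : G}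
    (hx : Van G x) (hodd : Odd (orderOf x)) : C2 G := by
  rcases closed_or hE with h | ⟨D, hD, hc, -⟩
  · exact h
  · exact absurd hodd (even_of_index_two D hD hc hx)

end Cfsg.Agent.H419.VanOrd
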