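import Cfsg.Agent.H419.VanOrd.SolvOne
import Cfsg.Agent.H690.SolvStruct

/-!
# Groups without normal Sylow 2-subgroup (helper419)
-/

set_option autoImplicit false

namespace Cfsg.Agent.H419.VanOrd

open Cfsg Cfsg.Agent.Characters Cfsg.Agent.H713 Cfsg.Agent.H690.Van

universe u v

/-- There is a normal Sylow 2-subgroup. -/
def C2 (Q : Type*) [Group Q] : Prop := ∃ T : Subgroup Q, T.Normal ∧ IsPGroup 2 T ∧ ¬ 2 ∣ T.index

theorem exists_quot : ∀ (n : ℕ) (G : Type u) [Group G] [Finite G], Nat.card G ≤ n → ¬ C2 G →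
    ∃ (Q : Type u) (_ : Group Q) (_ : Finite Q) (f : G →* Q), Function.Surjective f ∧ ¬ C2 Q ∧
      ∀ (L : Subgroup Q) [L.Normal], L ≠ ⊥ → C2 (Q ⧸ L) := by
  intro n
  induction n with
  | zero =>
    intro G _ _ hn
    have := Nat.card_pos (α := G)
    omega
  | succ n ih =>
    intro G _ _ hn hG
    by_cases h : ∀ (L : Subgroup G) [L.Normal], L ≠ ⊥ → C2 (G ⧸ L)
    · exact ⟨G, inferInstance, inferInstance, MonoidHom.id G, Function.surjective_id, hG, h⟩
    · push Not at h
      obtain ⟨L, hL, hLb, hLC⟩ := h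
      have hlt : Nat.card (G ⧸ L) ≤ n := by
        have h1 := Subgroup.card_eq_card_quotient_mul_card_subgroup L
        have h2 : 1 < Nat.card L := by
          rw [Subgroup.one_lt_card_iff_ne_bot]; exact hLb
        have h3 : 0 < Nat.card (G ⧸ L) := Nat.card_pos
        have h4 : Nat.card (G ⧸ L) < Nat.card G := by
          rw [h1]
          nlinarith
        omega
      obtain ⟨Q, hQ, hQf, f, hf, h1, h2⟩ := ih (G ⧸ L) hlt hLC
      exact ⟨Q, hQ, hQf, f.comp (QuotientGroup.mk' L), hf.comp (QuotientGroup.mk'_surjective L), h1, h2⟩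

theorem exists_section {Q : Type u} [Group Q] [Finite Q] [Group.IsSolvable Q] (h1 : ¬ C2 Q)
    (h2 : ∀ (L : Subgroup Q) [L.Normal], L ≠ ⊥ → C2 (Q ⧸ L)) :
    ∃ (X : Subgroup Q) (_ : X.Normal), (∀ a ∈ X, ∀ b ∈ X, a * b = b * a) ∧ ¬ 2 ∣ Nat.card X ∧
      ∃ T : Subgroup Q, T.Normal ∧ ¬ 2 ∣ T.index ∧ (∀ t ∈ T, ∃ k : ℕ, t ^ 2 ^ k ∈ X) ∧
        ¬ T ≤ Subgroup.centralizer (X : Set Q) := by
  classical
  have hF2 : Fact (Nat.Prime 2) := ⟨Nat.prime_two⟩
  have hnt : Nontrivial Q := by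
    by_contra hcon
    rw [not_nontrivial_iff_subsingleton] at hcon
    apply h1
    refine ⟨⊥, inferInstance, IsPGroup.of_bot, ?_⟩
    rw [Subgroup.index_bot, Nat.card_eq_one_iff_unique.2 ⟨hcon, ⟨1⟩⟩]
    norm_num
  obtain ⟨q, L, hq, hLn, hLq, hLc, hLb, hmin⟩ := Cfsg.Agent.Solvable.Carter.exists_min_normal Q
  have hLc' : ∀ a ∈ L, ∀ b ∈ L, a * b = b * a := fun a ha b hb => setLike_mul_comm ha hb
  obtain ⟨T', hT'n, hT'p, hT'i⟩ := h2 L hLb
  set T : Subgroup Q := T'.comap (QuotientGroup.mk' L) with hT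
  have hTn : T.Normal := inferInstance
  have hTi : ¬ 2 ∣ T.index := by
    rw [hT, Subgroup.index_comap_of_surjective _ (QuotientGroup.mk'_surjective L)]
    exact hT'i
  have hLT : L ≤ T := by
    intro x hx
    rw [hT, Subgroup.mem_comap]
    have : (QuotientGroup.mk' L) x = 1 := (QuotientGroup.eq_one_iff x).2 hx
    rw [this]
    exact T'.one_mem
  have hpow : ∀ t ∈ T, ∃ k : ℕ, t ^ 2 ^ k ∈ L := by
    intro t ht
    obtain ⟨k, hk⟩ := hT'p ⟨_, ht⟩
    refine ⟨k, ?_⟩
    rw [← QuotientGroup.eq_one_iff]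
    exact congrArg Subtype.val hk
  have hqf : Fact q.Prime := ⟨hq⟩
  rcases eq_or_ne q 2 with rfl | hq2
  · exfalso
    apply h1
    refine ⟨T, hTn, ?_, hTi⟩
    intro t
    obtain ⟨k, hk⟩ := hpow t t.2
    obtain ⟨j, hj⟩ := hLq ⟨_, hk⟩
    refine ⟨k + j, ?_⟩
    apply Subtype.ext
    have h3 : ((t : Q) ^ 2 ^ k) ^ 2 ^ j = 1 := congrArg Subtype.val hj
    rw [pow_add, pow_mul]
    exact h3
  · refine ⟨L, hLn, hLc', ?_, T, hTn, hTi, hpow, ?_⟩
    · obtain ⟨a, ha⟩ := (IsPGroup.iff_card (p := q) (G := L)).1 hLq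
      rw [ha]
      intro h
      have h3 := (Nat.prime_dvd_prime_iff_eq Nat.prime_two hq).1 (Nat.prime_two.dvd_of_dvd_pow h)
      exact hq2 h3.symm
    · intro hTC
      apply h1
      have hcen : ∀ l : T, (l : Q) ∈ L → l ∈ Subgroup.center T := by
        intro l hl
        rw [Subgroup.mem_center_iff]
        intro t
        apply Subtype.ext
        exact (Subgroup.mem_centralizer_iff.1 (hTC t.2) l hl).symm
      have hZ2 : IsPGroup 2 (T ⧸ Subgroup.center T) := by
        intro t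
        obtain ⟨t, rfl⟩ := QuotientGroup.mk_surjective t
        obtain ⟨k, hk⟩ := hpow t t.2
        refine ⟨k, ?_⟩
        rw [← QuotientGroup.mk_pow, QuotientGroup.eq_one_iff]
        exact hcen _ hk
      have hnil : Group.IsNilpotent T := Group.of_quotient_center_nilpotent hZ2.isNilpotent
      obtain ⟨S⟩ : Nonempty (Sylow 2 T) := inferInstance
      have hSn : (S : Subgroup T).Normal := by
        have h4 := ((Group.isNilpotent_of_finite_tfae (G := T)).out 0 3 rfl rfl :
          Group.IsNilpotent T ↔ ∀ (p : ℕ) (_hp : Fact p.Prime) (P : Sylow p T), (↑P : Subgroup T).Normal)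
        exact h4.1 hnil 2 hF2 S
      have hSc : (S : Subgroup T).Characteristic := S.characteristic_of_normal hSn
      refine ⟨(S : Subgroup T).map T.subtype, ConjAct.normal_of_characteristic_of_normal,
        S.isPGroup'.map _, ?_⟩
      have h3 : ((S : Subgroup T).map T.subtype).index = (S : Subgroup T).index * T.index :=
        Subgroup.index_map_subtype _
      rw [h3, Nat.prime_two.dvd_mul]
      rintro (h | h)
      · exact S.not_dvd_index h
      · exact hTi h

/-- A finite solvable group with property `Ev` has a normal Sylow 2-subgroup or an abelian subgroup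
of index two, all elements outside of which are involutions. -/
theorem closed_or {G : Type u} [Group G] [Finite G] [Group.IsSolvable G] (hE : Ev G) :
    C2 G ∨ ∃ D : Subgroup G, D.index = 2 ∧ (∀ a ∈ D, ∀ b ∈ D, a * b = b * a) ∧
      ∀ g ∉ D, orderOf g = 2 := by
  classical
  have hF2 : Fact (Nat.Prime 2) := ⟨Nat.prime_two⟩
  by_cases hC : C2 G
  · exact Or.inl hC
  refine Or.inr ?_
  obtain ⟨Q, hQ, hQf, f, hf, h1, h2⟩ := exists_quot _ G le_rfl hC
  have hQs : Group.IsSolvable Q := solvable_of_surjective hf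
  obtain ⟨X, hX, hXc, hXo, T, hTn, hTi, hTp, hTX⟩ := exists_section h1 h2
  let Φ : G →* MulAut X := (MulAut.conjNormal : Q →* MulAut X).comp f
  let R : G →* Φ.range := Φ.rangeRestrict
  have hR : Function.Surjective R := Φ.rangeRestrict_surjective
  let T' : Subgroup G := T.comap f
  have hT'n : T'.Normal := inferInstance
  let P0 : Subgroup Φ.range := T'.map R
  have hP0n : P0.Normal := hT'n.map R hR
  have hXΦ : ∀ g : G, f g ∈ X → Φ g = 1 := by
    intro g hg
    apply MulEquiv.ext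
    intro y
    apply Subtype.ext
    show f g * y * (f g)⁻¹ = y
    rw [hXc (f g) hg y y.2, mul_inv_cancel_right]
  have hP0p : IsPGroup 2 P0 := by
    rintro ⟨_, t, ht, rfl⟩
    obtain ⟨k, hk⟩ := hTp (f t) ht
    refine ⟨k, ?_⟩
    apply Subtype.ext
    show (R t) ^ 2 ^ k = 1
    rw [← map_pow]
    apply Subtype.ext
    exact hXΦ _ (by rw [map_pow]; exact hk)
  have hP0i : ¬ 2 ∣ P0.index := by
    intro h
    apply hTi
    have h3 : P0.index ∣ T'.index := Subgroup.index_map_dvd T' hR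
    rw [Subgroup.index_comap_of_surjective _ hf] at h3
    exact h.trans h3
  refine exists_index_two f hf X hE hXc hXo Φ (fun g => rfl) (hP0p.toSylow hP0i) ?_ ?_
  · rw [IsPGroup.toSylow_coe]
    exact hP0n
  · rw [IsPGroup.toSylow_coe]
    intro h
    apply hTX
    intro t ht
    obtain ⟨g, rfl⟩ := hf t
    have h3 : R g ∈ P0 := ⟨g, ht, rfl⟩
    rw [h, Subgroup.mem_bot] at h3
    have h4 : Φ g = 1 := congrArg Subtype.val h3
    rw [Subgroup.mem_centralizer_iff]
    intro x hx
    have h6 : Φ g ⟨x, hx⟩ = ⟨x, hx⟩ := by rw [h4]; rfl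
    have h5 : f g * x * (f g)⁻¹ = x := congrArg Subtype.val h6
    exact (mul_inv_eq_iff_eq_mul.1 h5).symm

end Cfsg.Agent.H419.VanOrd
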